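import Cfsg.Agent.Lib.Spor.M24SylowTwo.LayerMove
import Cfsg.Agent.Lib.Goldschmidt.Consumers.Structure.Inputs
import Cfsg.Agent.Lib.Goldschmidt.Final

/-!
# The elementary subgroup of order 64 is normal
-/

set_option autoImplicit false
set_option linter.style.haveILetI false

namespace CfsgLib.Spor.M24SylowTwo.Layer

open Subgroup CfsgLib.Gold.Struct
open scoped commutatorElement

universe u

/-- What is used about the Sylow `2`-subgroup `S` and `A`. -/
structure Data {G : Type u} [Group G] (S : Sylow 2 G) (A : Subgroup G) (u v : G) : Prop where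
  sq : ∀ a ∈ A, a * a = 1
  norm : ∀ s ∈ (S : Subgroup G), ∀ a ∈ A, s * a * s⁻¹ ∈ A
  closed : Cfsg.IsStronglyClosed A (S : Subgroup G)
  self_cent : ∀ x ∈ (S : Subgroup G), (∀ a ∈ A, x * a = a * x) → x ∈ A
  bound : ∀ H : Subgroup G, A ≤ H → H ≤ (S : Subgroup G) → (∀ a ∈ H, ∀ b ∈ H, ⁅a, b⁆ ∈ A) →
    Nat.card H ≤ 4 * Nat.card A
  mem_u : u ∈ (S : Subgroup G)
  mem_v : v ∈ (S : Subgroup G)
  move : ∀ a ∈ A, ∀ s ∈ (S : Subgroup G), s * (⁅u, v⁆ * a * ⁅u, v⁆⁻¹ * a⁻¹) * s⁻¹ = ⁅u, v⁆ * a * ⁅u, v⁆⁻¹ * a⁻¹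
  fixed : ∀ F : Subgroup G, F ≤ A → (∀ a ∈ F, ∀ s ∈ (S : Subgroup G), s * a * s⁻¹ = a) → Nat.card F ≤ 4
  cent : 16 ≤ Nat.card {a // a ∈ A ∧ ⁅u, v⁆ * a * ⁅u, v⁆⁻¹ = a}
  onto : ∀ p ∈ A, (∀ s ∈ (S : Subgroup G), s * p * s⁻¹ = p) →
    ∃ a ∈ A, ⁅u, v⁆ * a * ⁅u, v⁆⁻¹ * a⁻¹ = p

variable {G : Type u} [Group G] [Finite G]

omit [Finite G] in
/-- The conjugates of `A` under the normal closure already generate it. -/
theorem gen_normalClosure [Finite G] {S : Sylow 2 G} {A : Subgroup G}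
    (hsc : Cfsg.IsStronglyClosed A (S : Subgroup G)) {K : Subgroup G} [K.Normal]
    (hK : K = normalClosure (A : Set G)) (T : Sylow 2 K)
    (hT : ∀ x : K, x ∈ (T : Subgroup K) ↔ (x : G) ∈ (S : Subgroup G)) :
    normalClosure ((A.subgroupOf K : Subgroup K) : Set K) = ⊤ := by
  haveI := Fact.mk Nat.prime_two
  have hAK : A ≤ K := hK ▸ le_normalClosure
  set N := (normalClosure ((A.subgroupOf K : Subgroup K) : Set K)).map K.subtype with hN
  suffices hle : K ≤ N by
    refine top_le_iff.1 fun x _ => ?_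
    obtain ⟨y, hy, e⟩ := hle x.2
    rwa [← Subtype.ext (e : (y : G) = x)]
  conv_lhs => rw [hK]
  rw [normalClosure, closure_le]
  intro x hx
  obtain ⟨a, ha, hc⟩ := Group.mem_conjugatesOfSet_iff.1 hx
  obtain ⟨g, rfl⟩ := isConj_iff.1 hc
  obtain ⟨k, hk⟩ := MulAction.exists_smul_eq K (MulAut.conjNormal (H := K) g • T) T
  have hgk : (k : G) * g * a * ((k : G) * g)⁻¹ ∈ A := by
    refine hsc.2 a ha _ ?_
    have h1 : MulAut.conjNormal (H := K) g ⟨a, hAK ha⟩ ∈ ((MulAut.conjNormal (H := K) g • T : Sylow 2 K) : Subgroup K) :=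
      ⟨⟨a, hAK ha⟩, (hT _).2 (hsc.1 ha), rfl⟩
    have h2 : MulAut.conj k (MulAut.conjNormal (H := K) g ⟨a, hAK ha⟩) ∈ (T : Subgroup K) :=
      Eq.subst (motive := fun R : Sylow 2 K => MulAut.conj k (MulAut.conjNormal (H := K) g ⟨a, hAK ha⟩) ∈ (R : Subgroup K))
        hk (by rw [Sylow.coe_subgroup_smul]; exact ⟨_, h1, rfl⟩)
    have h3 := (hT _).1 h2
    rw [show (k : G) * g * a * ((k : G) * g)⁻¹ = (k : G) * (g * a * g⁻¹) * (k : G)⁻¹ by group]
    simpa [MulAut.conjNormal_apply] using h3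
  refine ⟨k⁻¹ * ⟨(k : G) * g * a * ((k : G) * g)⁻¹, hAK hgk⟩ * k⁻¹⁻¹, ?_, ?_⟩
  · exact (normalClosure_normal : (normalClosure ((A.subgroupOf K : Subgroup K) : Set K)).Normal).conj_mem _
      (subset_normalClosure (mem_subgroupOf.2 hgk)) _
  · show (k : G)⁻¹ * ((k : G) * g * a * ((k : G) * g)⁻¹) * ((k : G)⁻¹)⁻¹ = g * a * g⁻¹
    group

set_option maxHeartbeats 1000000 in
/-- Such a subgroup is normal. -/
theorem normal_of_data (hcore : Cfsg.pPrimeCore 2 G = ⊥) {S : Sylow 2 G} {A : Subgroup G} {u v : G}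
    (h : Data S A u v) : A.Normal := by
  classical
  haveI := Fact.mk Nat.prime_two
  set z := ⁅u, v⁆ with hz
  set X := normalClosure (A : Set G) with hX
  haveI hXn : X.Normal := normalClosure_normal
  have hAX : A ≤ X := le_normalClosure
  obtain ⟨P, hP'⟩ := CfsgLib.LS.sylow_inf_subnormal S (Normal.isSubnormal hXn)
  have hP : ∀ x : X, x ∈ (P : Subgroup X) ↔ (x : G) ∈ (S : Subgroup G) := fun x =>
    ⟨fun hx => (hP'.le (mem_map_of_mem X.subtype hx)).1, fun hx => by
      obtain ⟨y, hy, e⟩ := hP'.ge (show (x : G) ∈ (S : Subgroup G) ⊓ X from ⟨hx, x.2⟩)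
      rwa [← Subtype.ext (e : (y : G) = x)]⟩
  set B := A.subgroupOf X with hB
  have hcardB : Nat.card B = Nat.card A := Nat.card_congr (subgroupOfEquivOfLe hAX).toEquiv
  have hXcore : Cfsg.pPrimeCore 2 X = ⊥ := by
    have h1 := CfsgLib.Coprime.pPrimeCore_map_subtype_eq (p := 2) Nat.prime_two X
    rw [hcore, bot_inf_eq, map_eq_bot_iff_of_injective _ X.subtype_injective] at h1
    exact h1
  have hsqB : ∀ b ∈ B, b * b = 1 := fun b hb => Subtype.ext (h.sq _ hb)
  have hpre : Pre P B := ⟨hXcore, fun a ha b hb => comm_of_sq hsqB ha hb,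
    ⟨fun b hb => (hP b).2 (h.closed.1 hb), fun b hb g hg => h.closed.2 (b : G) hb g ((hP _).1 hg)⟩,
    gen_normalClosure h.closed hX P hP⟩
  have hI : Inputs.{u} := inputs_of CfsgLib.Gold.main
  let σ : (S : Subgroup G) →* MulAut X := (MulAut.conjNormal (H := X)).comp (S : Subgroup G).subtype
  have hσ : ∀ (s : (S : Subgroup G)) (x : X), ((σ s x : X) : G) = (s : G) * x * (s : G)⁻¹ := fun s x =>
    MulAut.conjNormal_apply (s : G) x
  have ho : Outer P B σ :=
    { group := S.2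
      sq := hsqB
      stab := fun w b hb => by rw [hB, mem_subgroupOf, hσ]; exact h.norm _ w.2 _ hb
      exists_elt := fun x hx => ⟨⟨x, (hP x).1 hx⟩, fun y => Subtype.ext (by rw [hσ]; rfl)⟩
      self_cent := fun x hx hc => h.self_cent _ ((hP x).1 hx) fun a ha =>
        congrArg Subtype.val (hc ⟨a, hAX ha⟩ ha)
      bound := fun H hBH hHP hc => by
        rw [hcardB, ← card_map_of_injective (K := H) X.subtype_injective]
        refine h.bound _ (fun a ha => ⟨⟨a, hAX ha⟩, hBH ha, rfl⟩) ?_ ?_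
        · rintro _ ⟨y, hy, rfl⟩; exact (hP y).1 (hHP hy)
        · rintro _ ⟨a, ha, rfl⟩ _ ⟨b, hb, rfl⟩
          have := hc a ha b hb
          rw [← map_commutatorElement]
          exact this }
  set uu : (S : Subgroup G) := ⟨u, h.mem_u⟩
  set vv : (S : Subgroup G) := ⟨v, h.mem_v⟩
  have hzz : ((⁅uu, vv⁆ : (S : Subgroup G)) : G) = z := by
    rw [hz, ← (S : Subgroup G).coe_subtype, map_commutatorElement]; rfl
  have hmoveX : ∀ b : X, ((σ ⁅uu, vv⁆ b * b⁻¹ : X) : G) = z * b * z⁻¹ * (b : G)⁻¹ := fun b => by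
    rw [Subgroup.coe_mul, hσ, hzz, Subgroup.coe_inv]
  have he : Elt B σ uu vv :=
    { move := fun b hb w => Subtype.ext (by rw [hσ, hmoveX]; exact h.move _ hb _ w.2)
      fixed := fun F hF hfix => by
        rw [← card_map_of_injective (K := F) X.subtype_injective]
        refine h.fixed _ (by rintro _ ⟨y, hy, rfl⟩; exact hF hy) ?_
        rintro _ ⟨y, hy, rfl⟩ s hs
        have := congrArg Subtype.val (hfix y hy ⟨s, hs⟩)
        rw [hσ] at this
        exact this
      cent := by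
        refine h.cent.trans_eq (Nat.card_congr
          { toFun := fun a => ⟨⟨a.1, hAX a.2.1⟩, a.2.1, Subtype.ext (by rw [hσ, hzz]; exact a.2.2)⟩
            invFun := fun b => ⟨(b.1 : G), b.2.1, by
              have := congrArg Subtype.val b.2.2
              rw [hσ, hzz] at this
              exact this⟩
            left_inv := fun a => Subtype.ext rfl
            right_inv := fun b => Subtype.ext (Subtype.ext rfl) }) }
  obtain ⟨htop, hOc, hBO, hder⟩ := hpre.structure_theorem hI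
  set O := Cfsg.pCore 2 X with hO
  haveI : O.Normal := CfsgLib.Coprime.pCore_normal' 2
  have hOB : O ≤ B := hBO.symm ▸ le_sup_left
  -- the elements of `P` in a join of components
  have hjoin : ∀ s : Finset (Subgroup X), (∀ K ∈ s, Cfsg.IsComponent K) → ∀ x ∈ (P : Subgroup X) ⊓ join s,
      x ∈ B ∧ σ ⁅uu, vv⁆ x = x := by
    intro s
    induction s using Finset.induction_on with
    | empty =>
      intro _ x hx
      have : x = 1 := by simpa [join] using hx.2
      rw [this]; exact ⟨one_mem _, map_one _⟩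
    | @insert K s hKs ih =>
      intro hs x hx
      have hs' : ∀ L ∈ s, Cfsg.IsComponent L := fun L hL => hs L (Finset.mem_insert_of_mem hL)
      have hK := hs K (Finset.mem_insert_self _ _)
      haveI := hpre.component_normal hK
      haveI := hpre.join_normal s hs'
      have hx' : x ∈ (P : Subgroup X) ⊓ (K ⊔ join s) := by rwa [join, Finset.sup_insert] at hx
      rw [CfsgLib.LS.sylow_inf_sup P (Normal.isSubnormal inferInstance) (Normal.isSubnormal inferInstance),
        ← SetLike.mem_coe, coe_mul_of_left_le_normalizer_right] at hx'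
      swap
      · intro g hg
        refine mem_normalizer_fintype fun y hy =>
          ⟨(P : Subgroup X).mul_mem ((P : Subgroup X).mul_mem hg.1 hy.1) ((P : Subgroup X).inv_mem hg.1), ?_⟩
        exact (inferInstance : (join s).Normal).conj_mem y hy.2 g
      obtain ⟨k, hk, e, he', rfl⟩ := hx'
      obtain ⟨h1, h2⟩ := ih hs' e he'
      have h3 := sylow_le hpre hI ho hK hk.1 hk.2
      exact ⟨mul_mem h3 h1, by rw [map_mul, move_eq_one hpre hI ho he hK h3 hk.2, h2]⟩
  letI : Fintype (Subgroup X) := Fintype.ofFinite _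
  set comps := Finset.univ.filter fun K : Subgroup X => Cfsg.IsComponent K with hcomps
  have hcs : ∀ K ∈ comps, Cfsg.IsComponent K := fun K hK => (Finset.mem_filter.1 hK).2
  have hlay : Cfsg.layer X ≤ join comps := sSup_le fun K hK =>
    Finset.le_sup (f := id) (Finset.mem_filter.2 ⟨Finset.mem_univ _, hK⟩)
  have hsplit : ∀ x : X, ∃ c ∈ O, ∃ e ∈ Cfsg.layer X, x = c * e := by
    intro x
    haveI : (Cfsg.layer X).Normal := CfsgLib.Coprime.layer_normal
    have h1 : x ∈ ((O ⊔ Cfsg.layer X : Subgroup X) : Set X) := by rw [← hder, htop]; exact mem_top x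
    rw [normal_mul] at h1
    obtain ⟨c, hc, e, he', rfl⟩ := h1
    exact ⟨c, hc, e, he', rfl⟩
  have hPB : ∀ x ∈ (P : Subgroup X), x ∈ B := by
    intro x hx
    obtain ⟨c, hc, e, he', rfl⟩ := hsplit x
    have heP : e ∈ (P : Subgroup X) := by
      have := mul_mem (inv_mem (hpre.closed.1 (hOB hc))) hx
      rwa [inv_mul_cancel_left] at this
    exact mul_mem (hOB hc) (hjoin comps hcs e ⟨heP, hlay he'⟩).1
  by_cases hL : Cfsg.layer X = ⊥
  · have hOt : O = ⊤ := by rwa [hder, hL, sup_bot_eq] at htop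
    have hXA : X ≤ A := fun x hx => mem_subgroupOf.1 (hOB (hOt.ge (mem_top (⟨x, hx⟩ : X))) : (⟨x, hx⟩ : X) ∈ B)
    rw [le_antisymm hAX hXA]
    infer_instance
  exfalso
  -- an element of `A` in the layer fixed by `S`
  obtain ⟨K, hK⟩ : ∃ K : Subgroup X, Cfsg.IsComponent K := by
    by_contra hno
    exact hL (le_bot_iff.1 (sSup_le fun K hK => absurd ⟨K, hK⟩ hno))
  obtain ⟨b, hbB, hbc⟩ := hpre.exists_noncentral hK
  set D := Cfsg.layer X ⊓ B with hD
  haveI hlc : (Cfsg.layer X).Characteristic := CfsgLib.Coprime.layer_characteristic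
  have hDst : ∀ (w : (S : Subgroup G)), ∀ y ∈ D, σ w y ∈ D := fun w y hy =>
    ⟨(characteristic_iff_map_le.1 hlc (σ w)) ⟨y, hy.1, rfl⟩, ho.stab w y hy.2⟩
  letI : MulAction (S : Subgroup G) D :=
    { smul := fun w y => ⟨σ w y.1, hDst w _ y.2⟩
      one_smul := fun y => Subtype.ext (by show σ 1 y.1 = y.1; rw [map_one]; rfl)
      mul_smul := fun w w' y => Subtype.ext (act_mul w w' y.1) }
  have hDne : D ≠ ⊥ := fun e => hbc (by
    have : (b : X) ∈ D := ⟨CfsgLib.Coprime.component_le_layer hK b.2, hbB⟩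
    rw [e, Subgroup.mem_bot] at this
    rw [show b = 1 from Subtype.ext this]
    exact one_mem _)
  have h2 : 2 ∣ Nat.card D := by
    obtain ⟨k, hk⟩ := IsPGroup.iff_card.1 (P.2.to_le (inf_le_right.trans hpre.closed.1 : D ≤ (P : Subgroup X)))
    rcases Nat.eq_zero_or_pos k with rfl | hk0
    · exact absurd (Subgroup.card_eq_one.1 (hk.trans (pow_zero 2))) hDne
    · rw [hk]; exact dvd_pow_self 2 hk0.ne'
  obtain ⟨p, hpfix, hp1⟩ := S.2.exists_fixed_point_of_prime_dvd_card_of_fixed_point D h2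
    (a := (1 : D)) (fun w => Subtype.ext (map_one (σ w)))
  obtain ⟨a, haA, hae⟩ := h.onto ((p : X) : G) p.2.2 fun s hs => by
    have := congrArg (fun y : D => ((y : X) : G)) (hpfix ⟨s, hs⟩)
    rw [← hσ ⟨s, hs⟩]
    exact this
  have hpO : (p : X) ∈ O := by
    obtain ⟨c, hc, e, he', hce⟩ := hsplit ⟨a, hAX haA⟩
    have heP : e ∈ (P : Subgroup X) := by
      have := mul_mem (inv_mem (hpre.closed.1 (hOB hc))) ((hP ⟨a, hAX haA⟩).2 (h.closed.1 haA))
      rwa [hce, inv_mul_cancel_left] at this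
    have hp : (p : X) = σ ⁅uu, vv⁆ ⟨a, hAX haA⟩ * (⟨a, hAX haA⟩ : X)⁻¹ := Subtype.ext ((hmoveX _).trans hae).symm
    rw [hp, hce, map_mul, (hjoin comps hcs e ⟨heP, hlay he'⟩).2, mul_inv_rev, mul_assoc, mul_inv_cancel_left]
    refine O.mul_mem ?_ (O.inv_mem hc)
    haveI : O.Characteristic := CfsgLib.Coprime.pCore_characteristic 2
    exact (characteristic_iff_map_le.1 (inferInstance : O.Characteristic) (σ ⁅uu, vv⁆)) ⟨c, hc, rfl⟩
  haveI : IsMulCommutative (P : Subgroup X) := isMulCommutative_iff.2 fun x y => Subtype.ext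
    (comm_of_sq hsqB (hPB _ x.2) (hPB _ y.2))
  exact hp1 (Subtype.ext (CfsgLib.Fusion.central_inf_commutator_eq_one (P : Subgroup X) P.card_coprime_index
    (hOc hpO) (hder.ge p.2.1) (hpre.closed.1 p.2.2)).symm)

end CfsgLib.Spor.M24SylowTwo.Layer
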