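import Cfsg.Agent.Lib.Spor.M24SylowTwo.Fusion
import Cfsg.Agent.Lib.Spor.M24SylowTwo.LayerMain

/-!
# Groups with Sylow `2`-subgroup `V5`
-/

set_option autoImplicit false
set_option maxRecDepth 8000

namespace CfsgLib.Spor.M24SylowTwo

open Subgroup V5
open scoped commutatorElement

universe u

namespace V5

/-- The commutator of the second and the third generator. -/
def bc : V5 := B * C * B⁻¹ * C⁻¹

/-- Commuting with the four generators. -/
def isCentral (x : V5) : Bool := x * A == A * x && x * B == B * x && x * C == C * x && x * D == D * x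

set_option maxHeartbeats 8000000 in
theorem check_end : isBig bc = false ∧
    (all.all fun x => isBig x || all.any fun a => isBig a && !(x * a == a * x)) = true ∧
    (all.all fun x => !isBig x || (let w := bc * x * bc⁻¹ * x⁻¹
      w.a == 0 && w.b == 0 && w.c == 0 && w.d == 0 && w.e == 0 && w.f == 0 && w.g == 0)) = true ∧
    (all.countP fun x => isBig x && isCentral x) ≤ 4 ∧
    16 ≤ (all.countP fun x => isBig x && bc * x * bc⁻¹ == x) ∧
    (all.all fun p => !(isBig p && isCentral p) ||
      all.any fun x => isBig x && bc * x * bc⁻¹ * x⁻¹ == p) = true := by decide +kernel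

theorem central_low {w : V5} (h : w.a = 0 ∧ w.b = 0 ∧ w.c = 0 ∧ w.d = 0 ∧ w.e = 0 ∧ w.f = 0 ∧ w.g = 0) (y : V5) :
    y * w = w * y := by
  obtain ⟨h1, h2, h3, h4, h5, h6, h7⟩ := h
  ext <;> simp [mul_def, h1, h2, h3, h4, h5, h6, h7] <;> ring

end V5

/-- In a group without odd core whose Sylow `2`-subgroup is `V5`, the image of `big` is normal. -/
theorem big_normal {G : Type u} [Group G] [Finite G] (hcore : Cfsg.pPrimeCore 2 G = ⊥) {S : Sylow 2 G}
    {ι : V5 →* G} (h : Fusion.Emb S ι) : (big.map ι).Normal := by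
  classical
  obtain ⟨hz, hcent, hmove, hfix, h16, honto⟩ := check_end
  simp only [List.all_eq_true, List.any_eq_true, Bool.or_eq_true, Bool.and_eq_true, Bool.not_eq_true',
    beq_iff_eq, isBig_iff] at hcent hmove honto
  have hbc : (⁅ι B, ι C⁆ : G) = ι bc := (map_commutatorElement ι B C).symm
  have hcentral : ∀ p : V5, (∀ s ∈ (S : Subgroup G), s * ι p * s⁻¹ = ι p) → isCentral p = true := by
    intro p hp
    have key : ∀ y : V5, p * y = y * p := fun y => by
      refine h.inj ?_
      have h1 := hp (ι y) (h.mem_S y)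
      rw [mul_inv_eq_iff_eq_mul] at h1
      rw [map_mul, map_mul, h1]
    simp [isCentral, key]
  refine Layer.normal_of_data hcore (S := S) (u := ι B) (v := ι C)
    { sq := fun a ha => h.big_sq ha
      norm := fun s hs a ha => ?_
      closed := h.stronglyClosed
      self_cent := fun x hx hc => ?_
      bound := fun H hAH hHS hab => ?_
      mem_u := h.mem_S _
      mem_v := h.mem_S _
      move := fun a ha s hs => ?_
      fixed := fun F hF hfixF => ?_
      cent := ?_
      onto := fun p hp hpfix => ?_ }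
  · obtain ⟨x, rfl⟩ := h.exists_eq hs
    obtain ⟨b, hb, rfl⟩ := ha
    exact ⟨x * b * x⁻¹, big_conj_mem hb x, by rw [map_mul, map_mul, map_inv]⟩
  · obtain ⟨x₀, rfl⟩ := h.exists_eq hx
    refine mem_map_of_mem ι ?_
    rcases hcent x₀ (mem_all x₀) with hb | ⟨a, -, ha, hne⟩
    · exact hb
    · refine absurd (h.inj ?_ : x₀ * a = a * x₀) (by simpa using hne)
      rw [map_mul, map_mul, hc _ (mem_map_of_mem ι ha)]
  · rw [h.card_big_map]
    by_cases hS : H = (S : Subgroup G)
    · exfalso
      obtain ⟨b, hb, e⟩ := hab _ (hS.symm ▸ h.mem_S B) _ (hS.symm ▸ h.mem_S C)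
      rw [hbc] at e
      rw [SetLike.mem_coe, ← isBig_iff, h.inj e] at hb
      simp [hz] at hb
    · obtain ⟨m, hm⟩ := card_dvd_of_le hHS
      rw [h.card_S] at hm
      rcases Nat.lt_or_ge m 2 with hm2 | hm2
      · rcases m with _ | _ | m
        · simp at hm
        · exact absurd (Subgroup.eq_of_le_of_card_ge hHS (by rw [h.card_S]; omega)) hS
        · omega
      · have : Nat.card H * 2 ≤ Nat.card H * m := Nat.mul_le_mul_left _ hm2
        omega
  · obtain ⟨b, hb, rfl⟩ := ha
    obtain ⟨y, rfl⟩ := h.exists_eq hs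
    rcases hmove b (mem_all b) with hn | hw
    · exact absurd hb (by simpa [← isBig_iff] using hn)
    · rw [hbc, ← map_inv, ← map_inv, ← map_inv, ← map_mul, ← map_mul, ← map_mul, ← map_mul, ← map_mul,
        central_low (by obtain ⟨⟨⟨⟨⟨⟨a, b⟩, c⟩, d⟩, e⟩, f⟩, g⟩ := hw; exact ⟨a, b, c, d, e, f, g⟩) y,
        mul_inv_cancel_right]
  · refine le_trans ?_ hfix
    rw [← card_eq_countP (fun x => x ∈ big ∧ isCentral x = true) _ (fun x => by simp [isBig_iff])]
    refine Nat.card_le_card_of_injective (fun a : F => ⟨(hF a.2).choose, (hF a.2).choose_spec.1,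
      hcentral _ fun s hs => by rw [(hF a.2).choose_spec.2]; exact hfixF _ a.2 s hs⟩) fun a b e => Subtype.ext ?_
    rw [← (hF a.2).choose_spec.2, ← (hF b.2).choose_spec.2]
    exact congrArg ι (congrArg Subtype.val e)
  · refine h16.trans ?_
    rw [← card_eq_countP (fun x => x ∈ big ∧ bc * x * bc⁻¹ = x) _ (fun x => by simp [isBig_iff])]
    refine Nat.card_le_card_of_injective (fun x => ⟨ι x.1, mem_map_of_mem ι x.2.1, by
      rw [hbc, ← map_inv, ← map_mul, ← map_mul, x.2.2]⟩) fun a b e => Subtype.ext (h.inj (congrArg Subtype.val e))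
  · obtain ⟨p₀, hp₀, rfl⟩ := hp
    rcases honto p₀ (mem_all p₀) with hn | ⟨x, -, hx, hxe⟩
    · exact absurd hn (by simp [isBig_iff.2 hp₀, hcentral p₀ hpfix])
    · exact ⟨ι x, mem_map_of_mem ι hx, by rw [hbc, ← map_inv, ← map_inv, ← map_mul, ← map_mul, ← map_mul, hxe]⟩

/-- The identification with a Sylow subgroup isomorphic to `V5`. -/
noncomputable def embOf {G : Type u} [Group G] (S : Sylow 2 G) (e : (S : Subgroup G) ≃* V5) : V5 →* G :=
  (S : Subgroup G).subtype.comp e.symm.toMonoidHom

theorem emb_embOf {G : Type u} [Group G] (S : Sylow 2 G) (e : (S : Subgroup G) ≃* V5) :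
    Fusion.Emb S (embOf S e) :=
  ⟨(S : Subgroup G).subtype_injective.comp e.symm.injective, by
    ext x
    exact ⟨fun ⟨y, hy⟩ => hy ▸ (e.symm y).2, fun hx => ⟨e ⟨x, hx⟩, by simp [embOf]⟩⟩⟩

/-- An abelian subgroup of order 64 of the Sylow subgroup is normal. -/
theorem abelian_sixtyfour_normal {G : Type u} [Group G] [Finite G] (hcore : Cfsg.pPrimeCore 2 G = ⊥)
    (S : Sylow 2 G) (e : (S : Subgroup G) ≃* V5) {A : Subgroup G} (hA : A ≤ (S : Subgroup G))
    (hAc : IsMulCommutative A) (hA64 : Nat.card A = 64) : A.Normal := by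
  have h := emb_embOf S e
  have hle : A ≤ (embOf S e).range := h.range.symm ▸ hA
  have hmap : (A.comap (embOf S e)).map (embOf S e) = A := map_comap_eq_self hle
  have hc : A.comap (embOf S e) = big := by
    refine unique_big _ (isMulCommutative_iff.2 fun a b => Subtype.ext (h.inj ?_)) ?_
    · show embOf S e ((a : V5) * b) = embOf S e ((b : V5) * a)
      rw [map_mul, map_mul]
      exact congrArg Subtype.val (isMulCommutative_iff.1 hAc ⟨_, a.2⟩ ⟨_, b.2⟩)
    · rw [← card_map_of_injective (K := A.comap (embOf S e)) h.inj, hmap, hA64]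
  rw [← hmap, hc]
  exact big_normal hcore h

end CfsgLib.Spor.M24SylowTwo
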