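import Cfsg.Agent.Lib.Spor.M24SylowTwo.Embed
import Cfsg.Agent.Lib.Spor.M24SylowTwo.Apply
import Cfsg.Agent.Lib.Invol.ExtremelyClosedTwo
import Cfsg.Prelude.Def_Transfer

/-!
# The extraspecial subgroup of order `2^7` when the centre of the Sylow subgroup is central
-/

set_option autoImplicit false
set_option linter.style.haveILetI false

namespace CfsgLib.Spor.M24SylowTwo

open Subgroup
open scoped commutatorElement

universe u

/-- The centre of `U5` has order two. -/
theorem card_center_U5 : Nat.card (center U5) = 2 := by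
  have h := (center U5).card_eq_card_quotient_mul_card_subgroup
  rw [U5.card_eq] at h
  have h2 : Nat.card (U5 ⧸ center U5) = 512 := by
    rw [← U5.ker_proj, Nat.card_congr (QuotientGroup.quotientKerEquivOfSurjective U5.proj U5.proj_surjective).toEquiv,
      V5.card_eq]
  rw [h2] at h
  omega

/-- The extraspecial normal subgroup of order `2^7` is normal in the whole group. -/
theorem extraspecial_normal {H : Type u} [Group H] [Finite H] (hO : Cfsg.oddCore H = ⊥) (T : Sylow 2 H)
    (P : Sylow 2 ↥Cfsg.M24) (e : ↥(T : Subgroup H) ≃* ↥(P : Subgroup ↥Cfsg.M24))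
    (hZ : ∀ z ∈ (T : Subgroup H), (∀ t ∈ (T : Subgroup H), z * t = t * z) → z ∈ Subgroup.center H)
    {E : Subgroup H} (hE : E ≤ (T : Subgroup H)) (hEn : (E.subgroupOf (T : Subgroup H)).Normal)
    (hEx : Cfsg.IsExtraspecial 2 ↥E) (hE7 : Nat.card ↥E = 2 ^ 7) : E.Normal := by
  classical
  haveI := Fact.mk Nat.prime_two
  obtain ⟨f⟩ := nonempty_equiv P
  set e₁ : (T : Subgroup H) ≃* U5 := e.trans f
  set Z := (center (T : Subgroup H)).map (T : Subgroup H).subtype with hZdef
  have hZc : Z ≤ center H := by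
    rintro _ ⟨z, hz, rfl⟩
    exact hZ z z.2 fun t ht => (congrArg Subtype.val (mem_center_iff.1 hz ⟨t, ht⟩)).symm
  have hcardZ : Nat.card Z = 2 := by
    rw [card_map_of_injective (T : Subgroup H).subtype_injective,
      Nat.card_congr (Subgroup.centerCongr e₁).toEquiv, card_center_U5]
  haveI hZn : Z.Normal := ⟨fun z hz g => by rwa [mem_center_iff.1 (hZc hz) g, mul_inv_cancel_right]⟩
  obtain ⟨⟨-, -, hder⟩, hcE⟩ := hEx
  set CE := (center E).map E.subtype with hCE
  have hcardCE : Nat.card CE = 2 := by rw [card_map_of_injective E.subtype_injective, hcE]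
  have hCEZ : CE = Z := by
    refine Subgroup.eq_of_le_of_card_ge (fun c hc => ?_) (by rw [hcardCE, hcardZ])
    obtain ⟨c, hc, rfl⟩ := hc
    have hcT : (c : H) ∈ (T : Subgroup H) := hE c.2
    refine ⟨⟨(c : H), hcT⟩, mem_center_iff.2 fun t => Subtype.ext ?_, rfl⟩
    show (t : H) * c = c * t
    have hmem : ∀ y : H, y ∈ E → (t : H) * y * (t : H)⁻¹ ∈ E := fun y hy =>
      hEn.conj_mem ⟨y, hE hy⟩ hy t
    have hmem' : ∀ y : H, y ∈ E → (t : H)⁻¹ * y * (t : H) ∈ E := fun y hy => by
      have := mem_subgroupOf.1 (hEn.conj_mem ⟨y, hE hy⟩ hy t⁻¹)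
      push_cast at this
      simpa using this
    have hc' : (⟨_, hmem c c.2⟩ : E) ∈ center E := mem_center_iff.2 fun w => Subtype.ext (by
      have h1 := congrArg Subtype.val (mem_center_iff.1 hc ⟨_, hmem' w w.2⟩)
      have h2 := congrArg (fun y : H => (t : H) * y * (t : H)⁻¹) h1
      simpa [mul_assoc] using h2)
    by_cases hc1 : c = 1
    · simp [hc1]
    have h2 : (⟨_, hmem c c.2⟩ : E) = c := by
      haveI : Fintype (center E) := Fintype.ofFinite _
      by_contra hne
      have h3 : ({1, c, ⟨_, hmem c c.2⟩} : Finset E).card = 3 := by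
        rw [Finset.card_insert_of_notMem, Finset.card_pair (Ne.symm hne)]
        simp only [Finset.mem_insert, Finset.mem_singleton, not_or]
        refine ⟨Ne.symm hc1, fun e' => hc1 (Subtype.ext ?_)⟩
        have e'' : (t : H) * c * (t : H)⁻¹ = 1 := (congrArg Subtype.val e').symm
        simpa using e''
      have h4 : ({1, c, ⟨_, hmem c c.2⟩} : Finset E) ⊆ (Set.toFinite (center E : Set E)).toFinset := by
        intro y hy
        simp only [Finset.mem_insert, Finset.mem_singleton] at hy
        rw [Set.Finite.mem_toFinset]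
        rcases hy with rfl | rfl | rfl
        exacts [one_mem _, hc, hc']
      have := (Finset.card_le_card h4).trans_eq (Set.ncard_eq_toFinset_card _ _).symm
      rw [h3, ← Nat.card_coe_set_eq, show Nat.card ((center E : Set E) : Type _) = 2 from hcE] at this
      omega
    exact mul_inv_eq_iff_eq_mul.1 (congrArg Subtype.val h2)
  have hZE : Z ≤ E := hCEZ ▸ map_subtype_le _
  have hZT : Z ≤ (T : Subgroup H) := map_subtype_le _
  -- the quotient
  set q := QuotientGroup.mk' Z with hq
  have hqs : Function.Surjective q := QuotientGroup.mk'_surjective _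
  let S : Sylow 2 (H ⧸ Z) := T.mapSurjective hqs
  have hS : (S : Subgroup (H ⧸ Z)) = (T : Subgroup H).map q := Sylow.coe_mapSurjective hqs T
  have hcore : Cfsg.pPrimeCore 2 (H ⧸ Z) = ⊥ :=
    CfsgLib.ExtClosed.pPrimeCore_quotient_central hO (T.2.to_le hZT) hZc
  -- the Sylow subgroup of the quotient
  let φ : (T : Subgroup H) →* (S : Subgroup (H ⧸ Z)) :=
    (q.comp (T : Subgroup H).subtype).codRestrict _ fun t => hS.ge ⟨t, t.2, rfl⟩
  have hφs : Function.Surjective φ := fun y => by
    obtain ⟨t, ht, e'⟩ := hS.le y.2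
    exact ⟨⟨t, ht⟩, Subtype.ext e'⟩
  have hφk : φ.ker = center (T : Subgroup H) := by
    ext t
    rw [MonoidHom.mem_ker]
    refine ⟨fun ht => ?_, fun ht => Subtype.ext ((QuotientGroup.eq_one_iff (t : H)).2 ⟨t, ht, rfl⟩)⟩
    obtain ⟨z, hz, e'⟩ : (t : H) ∈ Z := (QuotientGroup.eq_one_iff (t : H)).1 (congrArg Subtype.val ht)
    rwa [← Subtype.ext (e' : (z : H) = t)]
  obtain ⟨ψ⟩ := nonempty_quotient_equiv P
  let eS : (S : Subgroup (H ⧸ Z)) ≃* V5 :=
    ((QuotientGroup.quotientKerEquivOfSurjective φ hφs).symm.trans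
      (QuotientGroup.quotientMulEquivOfEq hφk)).trans
      ((QuotientGroup.congr _ _ e (by
        ext x
        constructor
        · rintro ⟨y, hy, rfl⟩
          exact mem_center_iff.2 fun w => by
            obtain ⟨w, rfl⟩ := e.surjective w
            show e w * e y = e y * e w
            rw [← map_mul, ← map_mul, mem_center_iff.1 hy w]
        · intro hx
          refine ⟨e.symm x, mem_center_iff.2 fun w => e.injective ?_, e.apply_symm_apply x⟩
          rw [map_mul, map_mul, e.apply_symm_apply, mem_center_iff.1 hx])).trans ψ)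
  have hA : E.map q ≤ (S : Subgroup (H ⧸ Z)) := hS.symm ▸ map_mono hE
  have hAc : IsMulCommutative (E.map q) := isMulCommutative_iff.2 fun a b => by
    obtain ⟨x, hx, ea⟩ := a.2
    obtain ⟨y, hy, eb⟩ := b.2
    refine Subtype.ext ?_
    show (a : H ⧸ Z) * b = b * a
    rw [← ea, ← eb, ← commutatorElement_eq_one_iff_mul_comm, ← map_commutatorElement]
    refine (QuotientGroup.eq_one_iff _).2 (hCEZ ▸ ⟨⁅(⟨x, hx⟩ : E), ⟨y, hy⟩⁆, hder.le ?_, ?_⟩)
    · exact commutator_mem_commutator (mem_top _) (mem_top _)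
    · rw [map_commutatorElement]; rfl
  have hA64 : Nat.card (E.map q) = 64 := by
    have h1 := card_eq_card_quotient_mul_card_subgroup (Z.subgroupOf E)
    have h2 : Nat.card (E ⧸ Z.subgroupOf E) = Nat.card (E.map q) := by
      let g : E →* E.map q := (q.comp E.subtype).codRestrict _ fun x => mem_map_of_mem q x.2
      have hg : Function.Surjective g := fun y => by
        obtain ⟨x, hx, ey⟩ := y.2
        exact ⟨⟨x, hx⟩, Subtype.ext ey⟩
      have hk : g.ker = Z.subgroupOf E := by
        ext x
        rw [MonoidHom.mem_ker, mem_subgroupOf, ← QuotientGroup.eq_one_iff]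
        exact ⟨fun h' => congrArg Subtype.val h', fun h' => Subtype.ext h'⟩
      rw [← hk]
      exact Nat.card_congr (QuotientGroup.quotientKerEquivOfSurjective g hg).toEquiv
    rw [h2, hE7, Nat.card_congr (subgroupOfEquivOfLe hZE).toEquiv, hcardZ] at h1
    omega
  have hN := abelian_sixtyfour_normal hcore S eS hA hAc hA64
  have he : (E.map q).comap q = E := by
    rw [comap_map_eq, QuotientGroup.ker_mk', sup_eq_left.2 hZE]
  rw [← he]
  exact hN.comap q

end CfsgLib.Spor.M24SylowTwo
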