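import Cfsg.Agent.Lib.Spor.M24SylowTwo.Model
import Cfsg.Agent.Lib.Spor.M24Gen

/-!
# A Sylow 2-subgroup of `M24` is the unitriangular group of degree five
-/

set_option autoImplicit false
set_option maxRecDepth 8000

namespace CfsgLib.Spor.M24SylowTwo

open Subgroup Cfsg

/-- Packed images of the generators and of their iterated squares of products, and the identity. -/
def gA : ℕ := 716116640940482686066117815916738561
/-- See `gA`. -/
def gB : ℕ := 610645700039170093514306231153460291
/-- See `gA`. -/
def gC : ℕ := 236640362003071688657525297027528705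
/-- See `gA`. -/
def gD : ℕ := 968708902336673183175954409307867168
/-- See `gA`. -/
def gE : ℕ := 29217344650974509451812743540053559
/-- See `gA`. -/
def gF : ℕ := 29110984592773736638968905211528375
/-- See `gA`. -/
def gG : ℕ := 979121071158219704299181131031480352
/-- See `gA`. -/
def gH : ℕ := 153847684931458851992149899768202318
/-- See `gA`. -/
def gI : ℕ := 963721886883755259286232606933354528
/-- See `gA`. -/
def gZ : ℕ := 965128854020860192151391391390468128
/-- See `gA`. -/
def gOne : ℕ := 984818244535754528103549039458486304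

/-- Left multiplication by a power of a packed permutation. -/
def stepCode (t : ZMod 2) (g acc : ℕ) : ℕ := if t = 1 then permMulCode g acc else acc

/-- The packed permutation of an element of `U5`. -/
def code (u : U5) : ℕ :=
  stepCode (u.z + (u.v.h + u.v.e * u.v.c) * u.v.d) gZ <| stepCode (u.v.i + u.v.f * u.v.d) gI <|
    stepCode (u.v.h + u.v.e * u.v.c) gH <| stepCode u.v.g gG <| stepCode u.v.f gF <| stepCode u.v.e gE <|
    stepCode u.v.d gD <| stepCode u.v.c gC <| stepCode u.v.b gB <| stepCode u.v.a gA gOne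

/-- All elements of `U5`. -/
def allU : List U5 := V5.all.flatMap fun v => [⟨v, 0⟩, ⟨v, 1⟩]

theorem mem_allU (x : U5) : x ∈ allU := by
  have h : ∀ z : ZMod 2, z = 0 ∨ z = 1 := by decide
  refine List.mem_flatMap.2 ⟨x.v, V5.mem_all _, ?_⟩
  rcases h x.z with h | h
  · exact List.mem_cons.2 (Or.inl (U5.ext rfl h))
  · exact List.mem_cons.2 (Or.inr (List.mem_singleton.2 (U5.ext rfl h)))

set_option maxHeartbeats 4000000 in
theorem code_perm : allU.all (fun u => isPermCode (code u)) = true := by decide +kernel

theorem isPermCode_code (u : U5) : isPermCode (code u) = true :=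
  List.all_eq_true.1 code_perm u (mem_allU u)

theorem code_gen : [gA, gB, gC, gD].all isM24Code = true ∧
    [U5.A, U5.B, U5.C, U5.D].map code = [gA, gB, gC, gD] ∧ code 1 = gOne := by decide +kernel

set_option maxHeartbeats 8000000 in
theorem code_mul_A : allU.all (fun u => permMulCode (code U5.A) (code u) == code (U5.A * u)) = true := by
  decide +kernel

set_option maxHeartbeats 8000000 in
theorem code_mul_B : allU.all (fun u => permMulCode (code U5.B) (code u) == code (U5.B * u)) = true := by
  decide +kernel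

set_option maxHeartbeats 8000000 in
theorem code_mul_C : allU.all (fun u => permMulCode (code U5.C) (code u) == code (U5.C * u)) = true := by
  decide +kernel

set_option maxHeartbeats 8000000 in
theorem code_mul_D : allU.all (fun u => permMulCode (code U5.D) (code u) == code (U5.D * u)) = true := by
  decide +kernel

set_option maxHeartbeats 4000000 in
theorem code_inj : allU.all (fun u => (u == 1) || (List.range 24).any fun i => permFn (code u) i != i) = true := by
  decide +kernel

/-- The generated subgroup is everything. -/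
def word (u : U5) : U5 :=
  let E := (U5.A * U5.B) * (U5.A * U5.B)
  let F := (U5.B * U5.C) * (U5.B * U5.C)
  let G := (U5.C * U5.D) * (U5.C * U5.D)
  let H := (E * U5.C) * (E * U5.C)
  let I := (F * U5.D) * (F * U5.D)
  let Z := (H * U5.D) * (H * U5.D)
  let p : ZMod 2 → U5 → U5 := fun t g => if t = 1 then g else 1
  p (u.z + (u.v.h + u.v.e * u.v.c) * u.v.d) Z * p (u.v.i + u.v.f * u.v.d) I *
    p (u.v.h + u.v.e * u.v.c) H * p u.v.g G * p u.v.f F * p u.v.e E * p u.v.d U5.D * p u.v.c U5.C *
    p u.v.b U5.B * p u.v.a U5.A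

set_option maxHeartbeats 4000000 in
theorem word_check : allU.all (fun u => word u == u) = true := by decide +kernel

theorem word_mem (K : Submonoid U5) (hA : U5.A ∈ K) (hB : U5.B ∈ K) (hC : U5.C ∈ K) (hD : U5.D ∈ K)
    (u : U5) : u ∈ K := by
  have e : word u = u := by
    have h := List.all_eq_true.1 word_check u (mem_allU u)
    exact beq_iff_eq.1 h
  rw [← e, word]
  have hE := K.mul_mem (K.mul_mem hA hB) (K.mul_mem hA hB)
  have hF := K.mul_mem (K.mul_mem hB hC) (K.mul_mem hB hC)
  have hG := K.mul_mem (K.mul_mem hC hD) (K.mul_mem hC hD)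
  have hH := K.mul_mem (K.mul_mem hE hC) (K.mul_mem hE hC)
  have hI := K.mul_mem (K.mul_mem hF hD) (K.mul_mem hF hD)
  have hZ := K.mul_mem (K.mul_mem hH hD) (K.mul_mem hH hD)
  repeat' apply K.mul_mem
  all_goals (beta_reduce; split_ifs <;> first | exact K.one_mem | assumption)

/-- The permutation of an element of `U5`. -/
noncomputable def toPerm (u : U5) : Equiv.Perm GolayPt := permOf (code u)

theorem toPerm_mul_gen {g : U5} (hg : allU.all (fun u => permMulCode (code g) (code u) == code (g * u)) = true)
    (u : U5) : toPerm (g * u) = toPerm g * toPerm u :=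
  (permOf_permMulCode (isPermCode_code g) (isPermCode_code u) (isPermCode_code _)
    (beq_iff_eq.1 (List.all_eq_true.1 hg u (mem_allU u)))).symm

theorem toPerm_mul (x y : U5) : toPerm (x * y) = toPerm x * toPerm y := by
  have h1 : toPerm 1 = 1 := by
    have h := toPerm_mul_gen code_mul_A 1
    rw [mul_one] at h
    exact left_eq_mul.1 h
  let K : Submonoid U5 :=
    { carrier := {u | ∀ w, toPerm (u * w) = toPerm u * toPerm w}
      one_mem' := fun w => by rw [one_mul, h1, one_mul]
      mul_mem' := fun {a b} ha hb w => by rw [mul_assoc, ha, hb, ← mul_assoc, ← ha] }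
  exact word_mem K (toPerm_mul_gen code_mul_A) (toPerm_mul_gen code_mul_B) (toPerm_mul_gen code_mul_C)
    (toPerm_mul_gen code_mul_D) x y

theorem toPerm_mem (u : U5) : toPerm u ∈ M24 := by
  obtain ⟨hm, hmap, -⟩ := code_gen
  simp only [List.map_cons, List.map_nil, List.cons.injEq, and_true] at hmap
  simp only [List.all_cons, List.all_nil, Bool.and_true, Bool.and_eq_true] at hm
  obtain ⟨a, b, c, d⟩ := hmap
  let K : Submonoid U5 :=
    { carrier := {u | toPerm u ∈ M24}
      one_mem' := by
        show toPerm 1 ∈ M24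
        have h := toPerm_mul 1 1
        rw [mul_one] at h
        rw [left_eq_mul.1 h]
        exact one_mem _
      mul_mem' := fun {p q} hp hq => by
        show toPerm (p * q) ∈ M24
        rw [toPerm_mul]; exact mul_mem hp hq }
  exact word_mem K (show permOf _ ∈ M24 by rw [a]; exact permOf_mem_M24 hm.1)
    (show permOf _ ∈ M24 by rw [b]; exact permOf_mem_M24 hm.2.1)
    (show permOf _ ∈ M24 by rw [c]; exact permOf_mem_M24 hm.2.2.1)
    (show permOf _ ∈ M24 by rw [d]; exact permOf_mem_M24 hm.2.2.2) u

/-- The embedding of `U5` in `M24`. -/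
noncomputable def embed : U5 →* ↥M24 :=
  MonoidHom.mk' (fun u => ⟨toPerm u, toPerm_mem u⟩) fun x y => Subtype.ext (toPerm_mul x y)

theorem embed_injective : Function.Injective embed := by
  refine (injective_iff_map_eq_one embed).2 fun u hu => ?_
  have h := List.all_eq_true.1 code_inj u (mem_allU u)
  simp only [Bool.or_eq_true, beq_iff_eq, List.any_eq_true, List.mem_range, bne_iff_ne] at h
  rcases h with h | ⟨i, hi, hne⟩
  · exact h
  · refine absurd ?_ hne
    have h1 : toPerm u = 1 := congrArg Subtype.val hu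
    have h2 := permOf_idxPt (isPermCode_code u) hi
    rw [show permOf (code u) = 1 from h1, Equiv.Perm.one_apply] at h2
    have h3 := congrArg ptIdx h2
    rw [ptIdx_idxPt _ hi, ptIdx_idxPt _ (permFn_lt (isPermCode_code u) hi)] at h3
    exact h3.symm

theorem nonempty_equiv (P : Sylow 2 ↥M24) : Nonempty (↥(P : Subgroup ↥M24) ≃* U5) := by
  haveI : Fact (Nat.Prime 2) := ⟨Nat.prime_two⟩
  have hc : Nat.card ↥(embed.range) = 2 ^ (Nat.card ↥M24).factorization 2 := by
    rw [← Nat.card_congr (MonoidHom.ofInjective embed_injective).toEquiv, U5.card_eq, card_M24,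
      show (244823040 : ℕ) = 2 ^ 10 * 239085 by norm_num,
      Nat.factorization_mul (by norm_num) (by norm_num), Nat.Prime.factorization_pow Nat.prime_two,
      Finsupp.add_apply, Finsupp.single_eq_same, Nat.factorization_eq_zero_of_not_dvd (by norm_num)]
    norm_num
  let Q : Sylow 2 ↥M24 := Sylow.ofCard embed.range hc
  exact ⟨(P.equiv Q).trans ((MulEquiv.subgroupCongr (rfl : (Q : Subgroup ↥M24) = embed.range)).trans
    (MonoidHom.ofInjective embed_injective).symm)⟩

theorem nonempty_quotient_equiv (P : Sylow 2 ↥M24) :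
    Nonempty ((↥(P : Subgroup ↥M24) ⧸ Subgroup.center ↥(P : Subgroup ↥M24)) ≃* V5) := by
  obtain ⟨e⟩ := nonempty_equiv P
  refine ⟨(QuotientGroup.congr _ _ e ?_).trans
    ((QuotientGroup.quotientMulEquivOfEq U5.ker_proj.symm).trans
      (QuotientGroup.quotientKerEquivOfSurjective U5.proj U5.proj_surjective))⟩
  ext x
  constructor
  · rintro ⟨y, hy, rfl⟩
    refine Subgroup.mem_center_iff.2 fun z => ?_
    obtain ⟨w, rfl⟩ := e.surjective z
    show e w * e y = e y * e w
    rw [← map_mul, ← map_mul, Subgroup.mem_center_iff.1 hy w]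
  · intro hx
    refine ⟨e.symm x, Subgroup.mem_center_iff.2 fun z => e.injective ?_, e.apply_symm_apply x⟩
    rw [map_mul, map_mul, e.apply_symm_apply, Subgroup.mem_center_iff.1 hx]

theorem transfer {W : Type*} [Group W] (ψ : W ≃* V5) :
    (∀ M : Subgroup W, IsCoatom M → Nat.card ↥(Subgroup.center ↥M) ≤ 8) ∧
      (∃ A : Subgroup W, Cfsg.IsElementaryAbelian 2 A ∧ Nat.card ↥A = 64) ∧
      ∀ A B : Subgroup W, IsMulCommutative ↥A → Nat.card ↥A = 64 → IsMulCommutative ↥B →
        Nat.card ↥B = 64 → A = B := by
  have huniq : ∀ A : Subgroup W, IsMulCommutative ↥A → Nat.card ↥A = 64 →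
      A.map ψ.toMonoidHom = V5.big := by
    intro A hA h64
    refine V5.unique_big _ ⟨⟨fun x y => ?_⟩⟩ (by rw [Subgroup.card_map_of_injective (f := ψ.toMonoidHom) ψ.injective, h64])
    obtain ⟨x', hx, hxe⟩ := x.2
    obtain ⟨y', hy, hye⟩ := y.2
    refine Subtype.ext ?_
    show (x : V5) * y = y * x
    rw [← hxe, ← hye, ← map_mul, ← map_mul,
      show x' * y' = y' * x' from congrArg Subtype.val (hA.is_comm.comm (⟨x', hx⟩ : A) ⟨y', hy⟩)]
  refine ⟨fun M hM => ?_, ⟨V5.big.map ψ.symm.toMonoidHom, ⟨?_, ?_⟩, ?_⟩, fun A B hA hA64 hB hB64 => ?_⟩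
  · have h := V5.card_center_le _ ((OrderIso.isCoatom_iff ψ.mapSubgroup M).2 hM)
    refine le_trans (le_of_eq ?_) h
    exact Nat.card_congr (Subgroup.centerCongr (M.equivMapOfInjective ψ.toMonoidHom ψ.injective)).toEquiv
  · refine ⟨⟨fun x y => ?_⟩⟩
    obtain ⟨x', hx, hxe⟩ := x.2
    obtain ⟨y', hy, hye⟩ := y.2
    refine Subtype.ext ?_
    show (x : W) * y = y * x
    rw [← hxe, ← hye, ← map_mul, ← map_mul, V5.big_comm hx hy]
  · rintro _ ⟨x, hx, rfl⟩
    rw [← map_pow, V5.big_elementary.2 x hx, map_one]
  · rw [Subgroup.card_map_of_injective (f := ψ.symm.toMonoidHom) ψ.symm.injective, V5.card_big]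
  · exact Subgroup.map_injective (f := ψ.toMonoidHom) ψ.injective ((huniq A hA hA64).trans (huniq B hB hB64).symm)

end CfsgLib.Spor.M24SylowTwo
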