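import Cfsg.Agent.Lib.Spor.M24SylowTwo.LocalFacts
import Cfsg.Agent.Lib.LocalStructure.Kieler
import Cfsg.Prelude.Def_TwoFusion

/-!
# The elementary subgroup of order 64 is strongly closed

`ι` identifies `V5` with a Sylow `2`-subgroup `S` of `G`; `A` is the image of `big`.
-/

set_option autoImplicit false
set_option linter.style.haveILetI false

namespace CfsgLib.Spor.M24SylowTwo.Fusion

open Subgroup V5

universe u

variable {G : Type u} [Group G]

/-- `ι` identifies `V5` with `S`. -/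
structure Emb (S : Sylow 2 G) (ι : V5 →* G) : Prop where
  inj : Function.Injective ι
  range : ι.range = (S : Subgroup G)

/-- The involutions outside `big` fused into the image of `big`. -/
def Fused (ι : V5 →* G) (t : V5) : Prop :=
  t ∉ big ∧ ∃ a ∈ big, ∃ g : G, g * ι a * g⁻¹ = ι t

/-- The image of the centralizer in `V5`. -/
def cen (ι : V5 →* G) (t : V5) : Subgroup G := (centralizer ({t} : Set V5)).map ι

namespace Emb

variable {S : Sylow 2 G} {ι : V5 →* G}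

theorem mem_S (h : Emb S ι) (x : V5) : ι x ∈ (S : Subgroup G) := h.range ▸ ⟨x, rfl⟩

theorem exists_eq (h : Emb S ι) {x : G} (hx : x ∈ (S : Subgroup G)) : ∃ x₀, ι x₀ = x := by
  rwa [← h.range] at hx

theorem commute_iff (h : Emb S ι) {x y : V5} : Commute (ι x) (ι y) ↔ Commute x y :=
  ⟨fun e => h.inj (by rw [map_mul, map_mul]; exact e.eq), fun e => e.map ι⟩

theorem mem_cen (h : Emb S ι) {t x : V5} : ι x ∈ cen ι t ↔ Commute x t := by
  rw [cen, mem_map_iff_mem h.inj, mem_centralizer_singleton_iff]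
  exact Iff.rfl

theorem mem_cen_iff (h : Emb S ι) {t : V5} {w : G} :
    w ∈ cen ι t ↔ w ∈ (S : Subgroup G) ∧ Commute w (ι t) := by
  constructor
  · rintro ⟨x, hx, rfl⟩
    exact ⟨h.mem_S x, h.commute_iff.2 (mem_centralizer_singleton_iff.1 hx)⟩
  · rintro ⟨hw, hc⟩
    obtain ⟨x, rfl⟩ := h.exists_eq hw
    exact h.mem_cen.2 (h.commute_iff.1 hc)

theorem card_S (h : Emb S ι) : Nat.card (S : Subgroup G) = 512 := by
  rw [← h.range, ← Nat.card_congr (MonoidHom.ofInjective h.inj).toEquiv, V5.card_eq]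

theorem card_big_map (h : Emb S ι) : Nat.card (big.map ι) = 64 := by
  rw [card_map_of_injective h.inj, card_big]

theorem comm_big (h : Emb S ι) {x y : G} (hx : x ∈ big.map ι) (hy : y ∈ big.map ι) : x * y = y * x := by
  obtain ⟨a, ha, rfl⟩ := hx
  obtain ⟨b, hb, rfl⟩ := hy
  rw [← map_mul, ← map_mul, big_comm ha hb]

theorem big_le (h : Emb S ι) : big.map ι ≤ (S : Subgroup G) := by
  rintro _ ⟨x, -, rfl⟩; exact h.mem_S x

theorem big_sq (h : Emb S ι) {x : G} (hx : x ∈ big.map ι) : x * x = 1 := by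
  obtain ⟨a, ha, rfl⟩ := hx
  rw [← map_mul, ← pow_two, big_elementary.2 a ha, map_one]

/-- A conjugate of the image of `big` inside `S` is the image of `big`. -/
theorem conj_big (h : Emb S ι) {g : G} (hg : (big.map ι).map (MulAut.conj g).toMonoidHom ≤ (S : Subgroup G)) :
    (big.map ι).map (MulAut.conj g).toMonoidHom = big.map ι := by
  set C := (big.map ι).map (MulAut.conj g).toMonoidHom with hC
  have hle : C ≤ ι.range := h.range.symm ▸ hg
  have hmap : (C.comap ι).map ι = C := map_comap_eq_self hle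
  have hc : C.comap ι = big := by
    refine unique_big _ (isMulCommutative_iff.2 fun a b => Subtype.ext (h.inj ?_)) ?_
    · obtain ⟨x, hx, ex⟩ := (a.2 : ι a ∈ C)
      obtain ⟨y, hy, ey⟩ := (b.2 : ι b ∈ C)
      show ι ((a : V5) * b) = ι ((b : V5) * a)
      rw [map_mul, map_mul, ← ex, ← ey, ← map_mul, ← map_mul, h.comm_big hx hy]
    · rw [← card_map_of_injective (K := C.comap ι) h.inj, hmap,
        card_map_of_injective (MulAut.conj g).injective, h.card_big_map]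
  rw [← hmap, hc]

theorem conj_mem_big (h : Emb S ι) {g : G}
    (hg : (big.map ι).map (MulAut.conj g).toMonoidHom ≤ (S : Subgroup G)) {x : G} :
    g * x * g⁻¹ ∈ big.map ι ↔ x ∈ big.map ι := by
  constructor
  · intro hx
    rw [← h.conj_big hg] at hx
    obtain ⟨y, hy, e⟩ := hx
    rwa [← (MulAut.conj g).injective (e : MulAut.conj g y = MulAut.conj g x)]
  · intro hx
    rw [← h.conj_big hg]
    exact ⟨x, hx, rfl⟩

theorem normC_iff [Finite G] (h : Emb S ι) {t x : V5} :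
    ι x ∈ normalizer (cen ι t : Set G) ↔ NormC t x := by
  constructor
  · intro hx w hw
    have h1 := (mem_normalizer_iff.1 hx (ι w)).1 (h.mem_cen.2 hw)
    rw [← map_inv, ← map_mul, ← map_mul] at h1
    exact h.mem_cen.1 h1
  · intro hx
    refine mem_normalizer_fintype fun y hy => ?_
    obtain ⟨w, hw, rfl⟩ := hy
    show ι x * ι w * (ι x)⁻¹ ∈ cen ι t
    rw [← map_inv, ← map_mul, ← map_mul]
    exact h.mem_cen.2 (hx w (mem_centralizer_singleton_iff.1 hw))

variable [Finite G]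

set_option maxHeartbeats 1000000 in
/-- No fused involution has `N_S(C_S(t))` Sylow in the normalizer of `C_S(t)`. -/
theorem not_fused (h : Emb S ι) {t : V5} (hf : Fused ι t) (hF : InvolFacts t)
    (hY : ∃ Y : Sylow 2 (normalizer (cen ι t : Set G)),
      (Y : Subgroup (normalizer (cen ι t : Set G))) = (S : Subgroup G).subgroupOf (normalizer (cen ι t : Set G))) :
    False := by
  classical
  haveI := Fact.mk Nat.prime_two
  obtain ⟨-, a, ha, g₀, hg₀⟩ := hf
  set R := cen ι t with hR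
  set N := normalizer (R : Set G) with hN
  obtain ⟨Y, hYeq⟩ := hY
  set C := centralizer ({ι t} : Set G) with hC
  have hRS : R ≤ (S : Subgroup G) := fun w hw => (h.mem_cen_iff.1 hw).1
  have hRC : R ≤ C := fun w hw => mem_centralizer_singleton_iff.2 (h.mem_cen_iff.1 hw).2
  obtain ⟨P, hP⟩ := (S.2.to_le hRS).comap_of_injective C.subtype C.subtype_injective |>.exists_le_sylow
  -- the centralizer of `t` has a larger `2`-subgroup
  have hne : R.subgroupOf C ≠ (P : Subgroup C) := by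
    intro e
    set B := (big.map ι).map (MulAut.conj g₀).toMonoidHom with hB
    have hBC : B ≤ C := by
      rintro _ ⟨b, hb, rfl⟩
      refine mem_centralizer_singleton_iff.2 ?_
      show g₀ * b * g₀⁻¹ * ι t = ι t * (g₀ * b * g₀⁻¹)
      rw [← hg₀, show g₀ * b * g₀⁻¹ * (g₀ * ι a * g₀⁻¹) = g₀ * (b * ι a) * g₀⁻¹ by group,
        h.comm_big hb (mem_map_of_mem ι ha)]
      group
    have hBp : IsPGroup 2 (B.subgroupOf C) :=
      ((S.2.to_le h.big_le).map (MulAut.conj g₀).toMonoidHom).comap_of_injective C.subtype C.subtype_injective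
    obtain ⟨Q, hQ⟩ := hBp.exists_le_sylow
    obtain ⟨c, hc⟩ := MulAction.exists_smul_eq C Q P
    have hle : (big.map ι).map (MulAut.conj ((c : G) * g₀)).toMonoidHom ≤ R := by
      rintro _ ⟨b, hb, rfl⟩
      have h1 : (⟨g₀ * b * g₀⁻¹, hBC ⟨b, hb, rfl⟩⟩ : C) ∈ (Q : Subgroup C) := hQ ⟨b, hb, rfl⟩
      have h2 : c * ⟨g₀ * b * g₀⁻¹, hBC ⟨b, hb, rfl⟩⟩ * c⁻¹ ∈ (P : Subgroup C) := by
        rw [← hc, Sylow.coe_subgroup_smul]
        exact ⟨_, h1, rfl⟩
      rw [← e, mem_subgroupOf] at h2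
      show (c : G) * g₀ * b * ((c : G) * g₀)⁻¹ ∈ R
      rwa [show (c : G) * g₀ * b * ((c : G) * g₀)⁻¹ = (c : G) * (g₀ * b * g₀⁻¹) * (c : G)⁻¹ by group]
    have h3 := h.conj_big (hle.trans hRS)
    obtain ⟨b, hb, hbt⟩ := hF.moved
    exact hbt (h.mem_cen.1 (hle (h3.symm ▸ mem_map_of_mem ι hb)))
  haveI := P.2.isNilpotent
  set R₁ := (R.subgroupOf C).subgroupOf (P : Subgroup C) with hR₁
  have hR₁ne : R₁ ≠ ⊤ := fun e => hne (le_antisymm hP (subgroupOf_eq_top.1 e))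
  obtain ⟨x, hxN, hxR₁⟩ := SetLike.exists_of_lt
    (Group.normalizerCondition_of_isNilpotent R₁ (lt_top_iff_ne_top.2 hR₁ne))
  set xg : G := ((x : C) : G) with hxg
  have hxR : xg ∉ R := hxR₁
  have hxt : Commute xg (ι t) := mem_centralizer_singleton_iff.1 (x : C).2
  have hxnorm : xg ∈ N := mem_normalizer_fintype fun w hw => by
    have h1 := (mem_normalizer_iff.1 hxN ⟨⟨w, hRC hw⟩, hP (show (⟨w, hRC hw⟩ : C) ∈ R.subgroupOf C from hw)⟩).1
      (show _ ∈ R₁ from hw)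
    exact h1
  -- move it into `S`
  set U : Subgroup N := ((P : Subgroup C).map C.subtype).subgroupOf N
  have hUp : IsPGroup 2 U := (P.2.map C.subtype).comap_of_injective N.subtype N.subtype_injective
  obtain ⟨T, hT⟩ := hUp.exists_le_sylow
  obtain ⟨n, hn⟩ := MulAction.exists_smul_eq N T Y
  set g : G := (n : G) with hg
  have hconj : ∀ w : G, w ∈ R → g * w * g⁻¹ ∈ R := fun w hw => (mem_normalizer_iff.1 n.2 w).1 hw
  have hconj' : ∀ w : G, w ∈ R → g⁻¹ * w * g ∈ R := fun w hw => by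
    have := (mem_normalizer_iff.1 (inv_mem n.2) w).1 hw
    rwa [inv_inv] at this
  have hx' : g * xg * g⁻¹ ∈ (S : Subgroup G) := by
    have h1 : (⟨xg, hxnorm⟩ : N) ∈ (T : Subgroup N) := hT ⟨(x : C), x.2, rfl⟩
    have h2 : n * ⟨xg, hxnorm⟩ * n⁻¹ ∈ (Y : Subgroup N) := by
      rw [← hn, Sylow.coe_subgroup_smul]
      exact ⟨_, h1, rfl⟩
    rw [hYeq, mem_subgroupOf] at h2
    exact h2
  obtain ⟨x₀, hx₀⟩ := h.exists_eq hx'
  obtain ⟨t', ht'⟩ := h.exists_eq (hRS (hconj _ (h.mem_cen.2 (Commute.refl t))))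
  have hcen : ∀ {z z' : V5}, ι z' = g * ι z * g⁻¹ → CenC t z → CenC t z' := by
    intro z z' e hz w hw
    have h1 := h.mem_cen_iff.1 (hconj' _ (h.mem_cen.2 hw))
    obtain ⟨v, hv⟩ := h.exists_eq h1.1
    have h2 : Commute (ι v) (ι z) := h.commute_iff.2 (hz v (h.commute_iff.1 (hv ▸ h1.2)))
    have h3 := h2.map (MulAut.conj g).toMonoidHom
    refine h.commute_iff.1 ?_
    rw [e]
    simpa [hv, mul_assoc] using h3
  have hct' : CenC t t' := hcen ht' fun w hw => hw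
  have ht'big : t' ∈ big := by
    by_contra hb
    refine hxR ?_
    have h1 : Commute x₀ t' := by
      refine h.commute_iff.1 ?_
      rw [hx₀, ht']
      exact hxt.map (MulAut.conj g).toMonoidHom
    have h2 := hconj' _ (h.mem_cen.2 (hF.out t' hct' hb x₀ h1))
    rw [hx₀] at h2
    simpa [mul_assoc] using h2
  obtain ⟨r, hrb, hrC, hroot, y, hyN, hyt, hyz⟩ := hF.root
  -- `r` is fixed by the normalizer
  have hrfix : ∀ m : N, (m : G) * ι r * (m : G)⁻¹ = ι r := by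
    intro m
    have hmR : ∀ w : G, w ∈ R → (m : G) * w * (m : G)⁻¹ ∈ R := fun w hw => (mem_normalizer_iff.1 m.2 w).1 hw
    have hmR' : ∀ w : G, w ∈ R → (m : G)⁻¹ * w * (m : G) ∈ R := fun w hw => by
      have := (mem_normalizer_iff.1 (inv_mem m.2) w).1 hw
      rwa [inv_inv] at this
    obtain ⟨r', hr'⟩ := h.exists_eq (hRS (hmR _ (h.mem_cen.2 (hrC t (Commute.refl t)).symm)))
    rw [← hr']
    congr 1
    by_contra hne'
    refine hroot r' (fun w hw => ?_) hne' ?_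
    · obtain ⟨v, hv⟩ := h.exists_eq (hRS (hmR' _ (h.mem_cen.2 hw)))
      have h2 : Commute (ι v) (ι r) := h.commute_iff.2 (hrC v (h.mem_cen.1 (hv ▸ hmR' _ (h.mem_cen.2 hw))))
      have h3 := h2.map (MulAut.conj (m : G)).toMonoidHom
      refine h.commute_iff.1 ?_
      rw [hr']
      simpa [hv, mul_assoc] using h3
    · have key : ∀ z : V5, Nat.card {v // Commute v t ∧ v * v = z} =
          Nat.card {w : G // w ∈ R ∧ w * w = ι z} := fun z => Nat.card_eq_of_bijective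
        (fun v => ⟨ι v.1, h.mem_cen.2 v.2.1, by rw [← map_mul, v.2.2]⟩)
        ⟨fun v v' e => Subtype.ext (h.inj (congrArg Subtype.val e)), fun w => by
          obtain ⟨v, hv⟩ := h.exists_eq (hRS w.2.1)
          exact ⟨⟨v, h.mem_cen.1 (hv ▸ w.2.1), h.inj (by rw [map_mul, hv, w.2.2])⟩, Subtype.ext hv⟩⟩
      rw [key, key]
      refine Nat.card_congr
        { toFun := fun w => ⟨(m : G)⁻¹ * w.1 * (m : G), hmR' _ w.2.1, ?_⟩
          invFun := fun w => ⟨(m : G) * w.1 * (m : G)⁻¹, hmR _ w.2.1, ?_⟩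
          left_inv := fun w => Subtype.ext (by group)
          right_inv := fun w => Subtype.ext (by group) }
      · rw [show (m : G)⁻¹ * w.1 * (m : G) * ((m : G)⁻¹ * w.1 * (m : G)) = (m : G)⁻¹ * (w.1 * w.1) * (m : G) by group,
          w.2.2, hr']
        group
      · rw [show (m : G) * w.1 * (m : G)⁻¹ * ((m : G) * w.1 * (m : G)⁻¹) = (m : G) * (w.1 * w.1) * (m : G)⁻¹ by group,
          w.2.2, hr']
  have hr2 : ι r * ι r = 1 := h.big_sq (mem_map_of_mem ι hrb)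
  -- the elements moving the centre of the centralizer by `r`
  have hZconj : ∀ (m : N) (z : G), (z ∈ R ∧ ∀ w ∈ R, Commute w z) →
      ((m : G) * z * (m : G)⁻¹ ∈ R ∧ ∀ w ∈ R, Commute w ((m : G) * z * (m : G)⁻¹)) := by
    rintro m z ⟨hz, hzc⟩
    refine ⟨(mem_normalizer_iff.1 m.2 z).1 hz, fun w hw => ?_⟩
    have h1 : (m : G)⁻¹ * w * (m : G) ∈ R := by
      have := (mem_normalizer_iff.1 (inv_mem m.2) w).1 hw
      rwa [inv_inv] at this
    have h3 := (hzc _ h1).map (MulAut.conj (m : G)).toMonoidHom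
    simpa [mul_assoc] using h3
  let L : Subgroup N :=
    { carrier := {m | ∀ z : G, (z ∈ R ∧ ∀ w ∈ R, Commute w z) →
        (m : G) * z * (m : G)⁻¹ = z ∨ (m : G) * z * (m : G)⁻¹ = z * ι r}
      one_mem' := fun z _ => Or.inl (by simp)
      mul_mem' := fun {m m'} hm hm' z hz => by
        have e : ((m * m' : N) : G) * z * ((m * m' : N) : G)⁻¹ =
            (m : G) * ((m' : G) * z * (m' : G)⁻¹) * (m : G)⁻¹ := by push_cast; group
        rw [e]
        rcases hm' z hz with e' | e' <;> rw [e']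
        · exact hm z hz
        · rw [show (m : G) * (z * ι r) * (m : G)⁻¹ = (m : G) * z * (m : G)⁻¹ * ((m : G) * ι r * (m : G)⁻¹) by group,
            hrfix]
          rcases hm z hz with e'' | e'' <;> rw [e'']
          · exact Or.inr rfl
          · exact Or.inl (by rw [mul_assoc, hr2, mul_one])
      inv_mem' := fun {m} hm z hz => by
        have h1 := hm _ (hZconj m⁻¹ z hz)
        push_cast at h1 ⊢
        rw [show (m : G) * ((m : G)⁻¹ * z * (m : G)⁻¹⁻¹) * (m : G)⁻¹ = z by group] at h1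
        rcases h1 with e | e
        · exact Or.inl e.symm
        · refine Or.inr ?_
          calc (m : G)⁻¹ * z * (m : G)⁻¹⁻¹ = (m : G)⁻¹ * z * (m : G)⁻¹⁻¹ * ι r * ι r := by
                rw [mul_assoc _ (ι r), hr2, mul_one]
            _ = z * ι r := by rw [← e] }
  haveI hLn : L.Normal := ⟨fun l hl m z hz => by
    have h1 := hl _ (hZconj m⁻¹ z hz)
    push_cast at h1 ⊢
    rw [inv_inv] at h1
    rw [show (m : G) * (l : G) * (m : G)⁻¹ * z * ((m : G) * (l : G) * (m : G)⁻¹)⁻¹ =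
      (m : G) * ((l : G) * ((m : G)⁻¹ * z * (m : G)) * (l : G)⁻¹) * (m : G)⁻¹ by group]
    rcases h1 with e | e <;> rw [e]
    · exact Or.inl (by group)
    · refine Or.inr ?_
      rw [show (m : G) * ((m : G)⁻¹ * z * (m : G) * ι r) * (m : G)⁻¹ = z * ((m : G) * ι r * (m : G)⁻¹) by group,
        hrfix]⟩
  have hZι : ∀ {z : V5}, CenC t z → (ι z ∈ R ∧ ∀ w ∈ R, Commute w (ι z)) := fun {z} hz => by
    refine ⟨h.mem_cen.2 (hz t (Commute.refl t)).symm, fun w hw => ?_⟩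
    obtain ⟨v, hv⟩ := h.exists_eq (hRS hw)
    rw [← hv] at hw ⊢
    exact h.commute_iff.2 (hz v (h.mem_cen.1 hw))
  have hyN' : ι y ∈ N := h.normC_iff.2 hyN
  set y₁ : N := n * ⟨ι y, hyN'⟩ * n⁻¹
  have hyL : (⟨ι y, hyN'⟩ : N) ∈ L := by
    rintro z ⟨hz, hzc⟩
    obtain ⟨z₀, rfl⟩ := h.exists_eq (hRS hz)
    have hz₀ : CenC t z₀ := fun w hw => h.commute_iff.1 (hzc _ (h.mem_cen.2 hw))
    rcases hyz z₀ hz₀ with e | e
    · exact Or.inl (by rw [← map_inv, ← map_mul, ← map_mul, e])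
    · exact Or.inr (by rw [← map_inv, ← map_mul, ← map_mul, e, map_mul])
  have hy₁ : y₁ ∈ L := hLn.conj_mem _ hyL n
  obtain ⟨Q, hQ⟩ := CfsgLib.LS.sylow_inf_subnormal Y (Subgroup.Normal.isSubnormal hLn)
  have hy₁p : IsPGroup 2 (zpowers (⟨y₁, hy₁⟩ : L)) := by
    obtain ⟨k, hk⟩ := S.2 ⟨ι y, h.mem_S y⟩
    have hk' : (⟨ι y, hyN'⟩ : N) ^ 2 ^ k = 1 := Subtype.ext (by simpa using congrArg Subtype.val hk)
    intro w
    refine ⟨k, Subtype.ext ?_⟩
    obtain ⟨i, hi⟩ := mem_zpowers_iff.1 w.2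
    rw [Subgroup.coe_pow, ← hi, ← zpow_natCast, ← zpow_mul, mul_comm, zpow_mul, zpow_natCast]
    have : (⟨y₁, hy₁⟩ : L) ^ 2 ^ k = 1 := Subtype.ext (by
      show y₁ ^ 2 ^ k = 1
      rw [conj_pow, hk']; group)
    rw [this, one_zpow]; rfl
  obtain ⟨T', hT'⟩ := hy₁p.exists_le_sylow
  obtain ⟨l, hl⟩ := MulAction.exists_smul_eq L T' Q
  have hmem : l * ⟨y₁, hy₁⟩ * l⁻¹ ∈ (Q : Subgroup L) := by
    rw [← hl, Sylow.coe_subgroup_smul]
    exact ⟨_, hT' (mem_zpowers _), rfl⟩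
  have hy₀ : ((l : N) : G) * (y₁ : G) * ((l : N) : G)⁻¹ ∈ (S : Subgroup G) := by
    have h1 : ((l * ⟨y₁, hy₁⟩ * l⁻¹ : L) : N) ∈ (Y : Subgroup N) := (hQ.le ⟨_, hmem, rfl⟩).1
    rw [hYeq, mem_subgroupOf] at h1
    exact h1
  obtain ⟨y₀, hy₀e⟩ := h.exists_eq hy₀
  have hy₀N : NormC t y₀ := h.normC_iff.1 (hy₀e ▸ N.mul_mem (N.mul_mem (l : N).2 y₁.2) (N.inv_mem (l : N).2))
  have hfix : ∀ z₀ ∈ big, CenC t z₀ →
      ((l : N) : G) * (y₁ : G) * ((l : N) : G)⁻¹ * ι z₀ * (((l : N) : G) * (y₁ : G) * ((l : N) : G)⁻¹)⁻¹ = ι z₀ := by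
    intro z₀ hz₀b hz₀
    rw [← hy₀e, ← map_inv, ← map_mul, ← map_mul, (hF.fix y₀ hy₀N z₀ hz₀b hz₀).eq, mul_inv_cancel_right]
  -- so the conjugate of `y` commutes with the conjugate of `t`
  have hz : (y₁ : G) * ι t' * (y₁ : G)⁻¹ = ι t' := by
    set lg : G := ((l : N) : G)
    have h1 := hfix t' ht'big hct'
    have hrr := hfix r hrb hrC
    have hl' : lg⁻¹ * ι r * lg = ι r := by simpa using hrfix (l : N)⁻¹
    rcases (l.2 : (l : N) ∈ L) (ι t') (hZι hct') with e | e <;> change lg * ι t' * lg⁻¹ = _ at e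
    · have e' : lg⁻¹ * ι t' * lg = ι t' := by
        conv_lhs => rw [← e]
        group
      calc (y₁ : G) * ι t' * (y₁ : G)⁻¹ = lg⁻¹ * (lg * (y₁ : G) * lg⁻¹ * (lg * ι t' * lg⁻¹) *
            (lg * (y₁ : G) * lg⁻¹)⁻¹) * lg := by group
        _ = ι t' := by rw [e, h1, e']
    · calc (y₁ : G) * ι t' * (y₁ : G)⁻¹ = lg⁻¹ * (lg * (y₁ : G) * lg⁻¹ * (lg * ι t' * lg⁻¹) *
            (lg * (y₁ : G) * lg⁻¹)⁻¹) * lg := by group
        _ = lg⁻¹ * ((lg * (y₁ : G) * lg⁻¹ * ι t' * (lg * (y₁ : G) * lg⁻¹)⁻¹) *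
            (lg * (y₁ : G) * lg⁻¹ * ι r * (lg * (y₁ : G) * lg⁻¹)⁻¹)) * lg := by rw [e]; group
        _ = lg⁻¹ * (lg * ι t' * lg⁻¹) * lg := by rw [h1, hrr, e]
        _ = ι t' := by group
  refine hyt (h.commute_iff.1 ?_)
  have e : (y₁ : G) = g * ι y * g⁻¹ := rfl
  rw [e, ht', show g * ι y * g⁻¹ * (g * ι t * g⁻¹) * (g * ι y * g⁻¹)⁻¹ = g * (ι y * ι t * (ι y)⁻¹) * g⁻¹ by group,
    mul_left_inj, mul_right_inj, mul_inv_eq_iff_eq_mul] at hz
  exact hz

theorem normC_conj (h : Emb S ι) {t : V5} (s : V5) :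
    Nat.card {w // Commute w (s * t * s⁻¹)} = Nat.card {w // Commute w t} :=
  Nat.card_congr ((MulAut.conj s⁻¹).toEquiv.subtypeEquiv fun w => by
    constructor
    · intro e
      simpa [mul_assoc] using e.map (MulAut.conj s⁻¹).toMonoidHom
    · intro e
      simpa [mul_assoc] using e.map (MulAut.conj s).toMonoidHom)

theorem fused_conj (h : Emb S ι) {t : V5} (hf : Fused ι t) (s : V5) : Fused ι (s * t * s⁻¹) := by
  obtain ⟨ht, a, ha, g, hg⟩ := hf
  refine ⟨fun e => ht ((big_conj_mem_iff s).1 e), a, ha, ι s * g, ?_⟩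
  rw [map_mul, map_mul, map_inv, ← hg]
  group

theorem fused_sq (h : Emb S ι) {t : V5} (hf : Fused ι t) : t * t = 1 := by
  obtain ⟨-, a, ha, g, hg⟩ := hf
  refine h.inj ?_
  rw [map_mul, map_one, ← hg, show g * ι a * g⁻¹ * (g * ι a * g⁻¹) = g * (ι a * ι a) * g⁻¹ by group,
    h.big_sq (mem_map_of_mem ι ha)]
  group

/-- No fused involution has a normal centralizer. -/
theorem not_fused_normal (h : Emb S ι) {t : V5} (hf : Fused ι t) (hall : ∀ x, NormC t x) : False := by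
  haveI := Fact.mk Nat.prime_two
  obtain ⟨s, hF⟩ := exists_involFacts (h.fused_sq hf) hf.1
  refine h.not_fused (h.fused_conj hf s) hF ⟨S.subtype ?_, Sylow.coe_subtype _ _⟩
  intro w hw
  obtain ⟨x, rfl⟩ := h.exists_eq hw
  refine h.normC_iff.2 fun v hv => ?_
  have h1 : Commute (s⁻¹ * v * s) t := by simpa [mul_assoc] using hv.map (MulAut.conj s⁻¹).toMonoidHom
  have h2 := (hall (s⁻¹ * x * s) _ h1).map (MulAut.conj s).toMonoidHom
  simpa [mul_assoc] using h2

theorem card_normC (h : Emb S ι) (t : V5) :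
    Nat.card ((S : Subgroup G).subgroupOf (normalizer (cen ι t : Set G))) = Nat.card {x // NormC t x} :=
  (Nat.card_eq_of_bijective
    (fun x : {x // NormC t x} => (⟨⟨ι x.1, h.normC_iff.2 x.2⟩, h.mem_S x.1⟩ :
      (S : Subgroup G).subgroupOf (normalizer (cen ι t : Set G))))
    ⟨fun x x' e => Subtype.ext (h.inj (congrArg (fun w => ((w.1 : normalizer (cen ι t : Set G)) : G)) e)),
      fun w => by
        obtain ⟨x, hx⟩ := h.exists_eq (mem_subgroupOf.1 w.2)
        exact ⟨⟨x, h.normC_iff.1 (hx.symm ▸ w.1.2)⟩, Subtype.ext (Subtype.ext hx)⟩⟩).symm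

/-- The image of `big` is strongly closed. -/
theorem stronglyClosed (h : Emb S ι) : Cfsg.IsStronglyClosed (big.map ι) (S : Subgroup G) := by
  classical
  haveI := Fact.mk Nat.prime_two
  refine ⟨h.big_le, ?_⟩
  rintro _ ⟨a, ha, rfl⟩ g₁ hg₁
  obtain ⟨t₀, ht₀⟩ := h.exists_eq hg₁
  by_contra hnot
  have hf₀ : Fused ι t₀ := ⟨fun hb => hnot (ht₀ ▸ mem_map_of_mem ι hb), a, ha, g₁, ht₀.symm⟩
  haveI : Fintype V5 := Fintype.ofFinite _
  obtain ⟨t₁, ht₁, hmax₁⟩ := (Finset.univ.filter fun t => Fused ι t).exists_max_image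
    (fun t => Nat.card {w // Commute w t}) ⟨t₀, Finset.mem_filter.2 ⟨Finset.mem_univ _, hf₀⟩⟩
  have hf₁ := (Finset.mem_filter.1 ht₁).2
  obtain ⟨s, hF⟩ := exists_involFacts (h.fused_sq hf₁) hf₁.1
  set t := s * t₁ * s⁻¹
  have hf := h.fused_conj hf₁ s
  set N := normalizer (cen ι t : Set G) with hN
  obtain ⟨Y, hY⟩ := (S.2.comap_of_injective N.subtype N.subtype_injective :
    IsPGroup 2 ((S : Subgroup G).subgroupOf N)).exists_le_sylow
  by_cases heq : (Y : Subgroup N) = (S : Subgroup G).subgroupOf N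
  · exact h.not_fused hf hF ⟨Y, heq⟩
  -- otherwise `Y` is a Sylow subgroup of `G`
  obtain ⟨T, hT⟩ := (Y.2.map N.subtype).exists_le_sylow
  have hlt : 256 < Nat.card (Y : Subgroup N) := by
    refine lt_of_le_of_lt (hF.card.trans (h.card_normC t).ge) ?_
    exact lt_of_le_of_ne (card_le_of_le hY) fun e =>
      heq (Subgroup.eq_of_le_of_card_ge hY e.ge).symm
  have hcardT : Nat.card (T : Subgroup G) = 512 := by rw [Nat.card_congr (Sylow.equiv T S).toEquiv, h.card_S]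
  have hYT : (Y : Subgroup N).map N.subtype = (T : Subgroup G) := by
    refine Subgroup.eq_of_le_of_card_ge hT ?_
    rw [hcardT, card_map_of_injective N.subtype_injective]
    have hdvd : Nat.card (Y : Subgroup N) ∣ 2 ^ 9 := by
      have := card_dvd_of_le hT
      rwa [hcardT, card_map_of_injective N.subtype_injective] at this
    obtain ⟨k, hk, e⟩ := (Nat.dvd_prime_pow Nat.prime_two).1 hdvd
    rw [e] at hlt ⊢
    rcases Nat.lt_or_ge k 9 with hk' | hk'
    · have : 2 ^ k ≤ 2 ^ 8 := Nat.pow_le_pow_right (by norm_num) (by omega)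
      omega
    · exact (show (512 : ℕ) = 2 ^ 9 by norm_num) ▸ Nat.pow_le_pow_right (by norm_num) hk'
  obtain ⟨c, hc⟩ := MulAction.exists_smul_eq G T S
  have hcT : ∀ w : G, w ∈ (T : Subgroup G) ↔ c * w * c⁻¹ ∈ (S : Subgroup G) := fun w => by
    rw [← hc, Sylow.coe_subgroup_smul]
    refine ⟨fun hw => ⟨w, hw, rfl⟩, ?_⟩
    rintro ⟨v, hv, e⟩
    rwa [← (MulAut.conj c).injective (e : MulAut.conj c v = MulAut.conj c w)]
  have hST : ∀ x, NormC t x → ι x ∈ (T : Subgroup G) := fun x hx =>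
    hYT.le ⟨⟨ι x, h.normC_iff.2 hx⟩, hY (mem_subgroupOf.2 (h.mem_S x)), rfl⟩
  have hRT : ∀ x, Commute x t → ι x ∈ (T : Subgroup G) := fun x hx => hST x fun w hw => by
    have h1 := (hx.mul_left hw).mul_left hx.inv_left
    exact h1
  have hAc : (big.map ι).map (MulAut.conj c).toMonoidHom ≤ (S : Subgroup G) := by
    rintro _ ⟨b, hb, rfl⟩
    obtain ⟨b₀, hb₀, rfl⟩ := hb
    exact (hcT _).1 (hST b₀ (hF.le b₀ hb₀))
  obtain ⟨t₂, ht₂⟩ := h.exists_eq ((hcT _).1 (hRT t (Commute.refl t)))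
  have hf₂ : Fused ι t₂ := by
    obtain ⟨ht, a', ha', g', hg'⟩ := hf
    refine ⟨fun hb => ht ?_, a', ha', c * g', by rw [ht₂, ← hg']; group⟩
    have h1 : c * ι t * c⁻¹ ∈ big.map ι := ht₂ ▸ mem_map_of_mem ι hb
    exact (mem_map_iff_mem h.inj).1 ((h.conj_mem_big hAc).1 h1)
  have hex : ∀ w : {w // Commute w t}, ∃ w' : {w' // Commute w' t₂}, ι w'.1 = c * ι w.1 * c⁻¹ := fun w => by
    obtain ⟨w', hw'⟩ := h.exists_eq ((hcT _).1 (hRT w.1 w.2))
    refine ⟨⟨w', h.commute_iff.1 ?_⟩, hw'⟩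
    rw [hw', ht₂]
    exact (h.commute_iff.2 w.2).map (MulAut.conj c).toMonoidHom
  choose φ hφ using hex
  have hφi : Function.Injective φ := fun a b e => Subtype.ext (h.inj (by
    have := (hφ a).symm.trans (e ▸ hφ b)
    exact mul_left_cancel (mul_right_cancel this)))
  have hle : Nat.card {w // Commute w t₂} ≤ Nat.card {w // Commute w t} := by
    rw [h.normC_conj s]
    exact hmax₁ t₂ (Finset.mem_filter.2 ⟨Finset.mem_univ _, hf₂⟩)
  have hφs : Function.Surjective φ :=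
    (hφi.bijective_of_nat_card_le hle).2
  refine h.not_fused_normal hf₂ fun v w hw => ?_
  obtain ⟨w₀, hw₀⟩ := hφs ⟨w, hw⟩
  have hv : c⁻¹ * ι v * c ∈ N := by
    have h1 : c⁻¹ * ι v * c ∈ (T : Subgroup G) := (hcT _).2 (by
      rw [show c * (c⁻¹ * ι v * c) * c⁻¹ = ι v by group]; exact h.mem_S v)
    rw [← hYT] at h1
    obtain ⟨p, -, e⟩ := h1
    exact e ▸ p.2
  have h2 := h.mem_cen_iff.1 ((mem_normalizer_iff.1 hv (ι w₀.1)).1 (h.mem_cen.2 w₀.2))
  have e : ι w = c * ι w₀.1 * c⁻¹ := by rw [← hφ w₀, hw₀]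
  refine h.commute_iff.1 ?_
  rw [map_mul, map_mul, map_inv, e, ht₂]
  have h3 := h2.2.map (MulAut.conj c).toMonoidHom
  simpa [mul_assoc] using h3

end Emb

end CfsgLib.Spor.M24SylowTwo.Fusion
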