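import Cfsg.Agent.Lib.Goldschmidt.Consumers.Structure.Main
import Cfsg.Agent.Lib.Walter.Main
import Cfsg.Agent.Lib.Fusion.Abelian

/-!
# The components of the normal closure of an elementary strongly closed subgroup

`X` is generated by the conjugates of the elementary subgroup `B`, and `σ` is the action on `X` of the Sylow
`2`-subgroup of an overgroup. A distinguished element `z` of the latter moves `B` only by central elements; it is
shown to centralize the elements of `B` in every component.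
-/

set_option autoImplicit false
set_option linter.style.haveILetI false

namespace CfsgLib.Spor.M24SylowTwo.Layer

open Subgroup CfsgLib.Gold.Struct
open scoped commutatorElement

universe u

/-- A group generated by `x`, `y` and central elements, with `[x, y]` central, has cyclic commutators. -/
theorem commutator_mem_zpowers {Y : Type u} [Group Y] {x y : Y} {Z : Set Y}
    (hZ : ∀ a ∈ Z, ∀ b : Y, a * b = b * a) (hgen : closure ({x, y} ∪ Z) = ⊤)
    (hc : ∀ b : Y, ⁅x, y⁆ * b = b * ⁅x, y⁆) (a b : Y) : ⁅a, b⁆ ∈ zpowers ⁅x, y⁆ := by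
  set c := ⁅x, y⁆ with hcdef
  have hcz : ∀ w ∈ zpowers c, ∀ b : Y, w * b = b * w := fun w hw b => by
    obtain ⟨i, rfl⟩ := mem_zpowers_iff.1 hw
    exact ((show Commute c b from hc b).zpow_left i).eq
  have hmul : ∀ p q d : Y, ⁅q, d⁆ ∈ zpowers c → ⁅p, d⁆ ∈ zpowers c → ⁅p * q, d⁆ ∈ zpowers c := by
    intro p q d hq hp
    rw [show ⁅p * q, d⁆ = p * ⁅q, d⁆ * p⁻¹ * ⁅p, d⁆ by simp only [commutatorElement_def]; group,
      ← hcz _ hq p, mul_inv_cancel_right]
    exact mul_mem hq hp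
  have hinv : ∀ p d : Y, ⁅p, d⁆ ∈ zpowers c → ⁅p⁻¹, d⁆ ∈ zpowers c := by
    intro p d hp
    rw [show ⁅p⁻¹, d⁆ = p⁻¹ * ⁅p, d⁆⁻¹ * p by simp only [commutatorElement_def]; group,
      ← hcz _ (inv_mem hp) p⁻¹, inv_mul_cancel_right]
    exact inv_mem hp
  have hswap : ∀ p d : Y, ⁅p, d⁆ ∈ zpowers c → ⁅d, p⁆ ∈ zpowers c := fun p d hp => by
    rw [← commutatorElement_inv]; exact inv_mem hp
  have hgen1 : ∀ p ∈ ({x, y} ∪ Z : Set Y), ∀ q ∈ ({x, y} ∪ Z : Set Y), ⁅p, q⁆ ∈ zpowers c := by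
    intro p hp q hq
    rcases hp with hp | hp
    swap
    · rw [commutatorElement_eq_one_iff_mul_comm.2 (hZ p hp q)]; exact one_mem _
    rcases hq with hq | hq
    swap
    · rw [commutatorElement_eq_one_iff_mul_comm.2 (hZ q hq p).symm]; exact one_mem _
    rcases hp with rfl | rfl <;> rcases hq with rfl | rfl
    · rw [commutatorElement_self]; exact one_mem _
    · exact mem_zpowers _
    · exact hswap _ _ (mem_zpowers _)
    · rw [commutatorElement_self]; exact one_mem _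
  have h1 : ∀ q ∈ ({x, y} ∪ Z : Set Y), ∀ p : Y, ⁅p, q⁆ ∈ zpowers c := by
    intro q hq p
    induction (hgen.ge (mem_top p) : p ∈ Subgroup.closure _) using Subgroup.closure_induction with
    | mem p hp => exact hgen1 p hp q hq
    | one => rw [commutatorElement_one_left]; exact one_mem _
    | mul p p' _ _ hp hp' => exact hmul p p' q hp' hp
    | inv p _ hp => exact hinv p q hp
  induction (hgen.ge (mem_top a) : a ∈ Subgroup.closure _) using Subgroup.closure_induction with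
  | mem p hp => exact hswap _ _ (h1 p hp b)
  | one => rw [commutatorElement_one_left]; exact one_mem _
  | mul p p' _ _ hp hp' => exact hmul p p' b hp' hp
  | inv p _ hp => exact hinv p b hp

/-- A normal nontrivial subgroup of a finite `2`-group contains a nontrivial central element. -/
theorem exists_central {W : Type u} [Group W] [Finite W] (hW : IsPGroup 2 W) (N : Subgroup W) [N.Normal]
    (hN : N ≠ ⊥) : ∃ p ∈ N, p ≠ 1 ∧ ∀ w, w * p = p * w := by
  haveI := Fact.mk Nat.prime_two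
  have h2 : 2 ∣ Nat.card N := by
    obtain ⟨k, hk⟩ := IsPGroup.iff_card.1 (hW.to_subgroup N)
    rcases Nat.eq_zero_or_pos k with rfl | hk0
    · exact absurd (Subgroup.card_eq_one.1 (by simpa using hk)) hN
    · rw [hk]; exact dvd_pow_self 2 hk0.ne'
  have h1 : (1 : N) ∈ MulAction.fixedPoints (ConjAct W) N := fun g => Subtype.ext (by
    rw [ConjAct.Subgroup.val_conj_smul]; simp)
  obtain ⟨p, hp, hp1⟩ := (show IsPGroup 2 (ConjAct W) from hW).exists_fixed_point_of_prime_dvd_card_of_fixed_point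
    N h2 h1
  refine ⟨p, p.2, fun e => hp1 (Subtype.ext e.symm), fun w => ?_⟩
  have := congrArg Subtype.val (hp (ConjAct.toConjAct w))
  rw [ConjAct.Subgroup.val_conj_smul, ConjAct.smul_def, ConjAct.ofConjAct_toConjAct] at this
  exact mul_inv_eq_iff_eq_mul.1 this

/-- The overgroup acting on `X`. -/
structure Outer {X : Type u} [Group X] (P : Sylow 2 X) (B : Subgroup X) {W : Type u} [Group W]
    (σ : W →* MulAut X) : Prop where
  group : IsPGroup 2 W
  sq : ∀ b ∈ B, b * b = 1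
  stab : ∀ (w : W), ∀ b ∈ B, σ w b ∈ B
  exists_elt : ∀ x ∈ (P : Subgroup X), ∃ w, ∀ y, σ w y = x * y * x⁻¹
  self_cent : ∀ x ∈ (P : Subgroup X), (∀ b ∈ B, x * b = b * x) → x ∈ B
  bound : ∀ H : Subgroup X, B ≤ H → H ≤ (P : Subgroup X) → (∀ a ∈ H, ∀ b ∈ H, ⁅a, b⁆ ∈ B) →
    Nat.card H ≤ 4 * Nat.card B

/-- The element `z = [u, v]`. -/
structure Elt {X : Type u} [Group X] (B : Subgroup X) {W : Type u} [Group W] (σ : W →* MulAut X) (u v : W) :
    Prop where
  move : ∀ b ∈ B, ∀ w, σ w (σ ⁅u, v⁆ b * b⁻¹) = σ ⁅u, v⁆ b * b⁻¹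
  fixed : ∀ F : Subgroup X, F ≤ B → (∀ b ∈ F, ∀ w, σ w b = b) → Nat.card F ≤ 4
  cent : 16 ≤ Nat.card {b // b ∈ B ∧ σ ⁅u, v⁆ b = b}

variable {X : Type u} [Group X] [Finite X] {P : Sylow 2 X} {B K : Subgroup X} {W : Type u} [Group W]
  {σ : W →* MulAut X}

omit [Finite X] in
theorem comm_of_sq {B : Subgroup X} (h : ∀ b ∈ B, b * b = 1) {a b : X} (ha : a ∈ B) (hb : b ∈ B) :
    a * b = b * a := by
  have e : ∀ c ∈ B, c⁻¹ = c := fun c hc => inv_eq_of_mul_eq_one_right (h c hc)
  have := e _ (mul_mem ha hb)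
  rwa [mul_inv_rev, e a ha, e b hb, eq_comm] at this

set_option maxHeartbeats 1000000 in
/-- The Sylow `2`-subgroups of the components lie in `B`. -/
theorem sylow_le (h : Pre P B) (hI : Inputs.{u}) (ho : Outer P B σ) (hK : Cfsg.IsComponent K) {x : X}
    (hx : x ∈ (P : Subgroup X)) (hxK : x ∈ K) : x ∈ B := by
  classical
  haveI := Fact.mk Nat.prime_two
  have hcs := h.compSpec hI hK
  obtain ⟨T, hT, -⟩ := h.sylowK hK
  haveI := hK.2.2
  have hqs : Function.Surjective (QuotientGroup.mk' (center K)) := QuotientGroup.mk'_surjective _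
  set q := QuotientGroup.mk' (center K) with hq
  set Tq := (T : Subgroup K).map q with hTq
  let Ts : Sylow 2 (K ⧸ center K) := T.mapSurjective hqs
  have hTs : (Ts : Subgroup (K ⧸ center K)) = Tq := Sylow.coe_mapSurjective hqs T
  -- the image of `B`
  set BK := B.subgroupOf K with hBK
  have hBne : BK.map q ≠ ⊥ := fun e => by
    obtain ⟨b, hb, hbc⟩ := h.exists_noncentral hK
    exact hbc ((QuotientGroup.eq_one_iff _).1 ((Subgroup.eq_bot_iff_forall _).1 e _
      (mem_map_of_mem q (mem_subgroupOf.2 hb))))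
  have hscq : Cfsg.IsStronglyClosed (BK.map q) (Ts : Subgroup (K ⧸ center K)) := by
    have hsc : Cfsg.IsStronglyClosed BK (T : Subgroup K) :=
      ⟨fun b hb => (hT b).2 (h.closed.1 hb), fun b hb g hg => h.conj_mem (g := (g : X)) hb ((hT _).1 hg)⟩
    have := Cfsg.Agent.S1250.result T BK hsc (center K)
    rwa [hTs]
  have hform : Gold.Form (K ⧸ center K) := hI.form _ inferInstance hcs.noncomm Ts _ hBne
    (isMulCommutative_iff.2 fun a b => by
      obtain ⟨a', ha, ea⟩ := a.2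
      obtain ⟨b', hb, eb⟩ := b.2
      refine Subtype.ext ?_
      show (a : K ⧸ center K) * b = b * a
      rw [← ea, ← eb, ← map_mul, ← map_mul, show a' * b' = b' * a' from Subtype.ext (h.comm _ ha _ hb)]) hscq
  have hM := hI.model (K ⧸ center K) inferInstance hcs.noncomm hform Ts
  rw [hTs] at hM hscq
  have hBcen : ∀ b ∈ BK, ∀ t ∈ (T : Subgroup K), q b * q t = q t * q b := by
    intro b hb t ht
    refine hM.central _ (hscq.1 (mem_map_of_mem q hb)) ?_ _ (mem_map_of_mem q ht)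
    rw [← map_mul]
    exact (QuotientGroup.eq_one_iff _).2 (hcs.sq_central b hb)
  -- an element of the Sylow subgroup moves `B` by the centre
  have hZB : ∀ w : K, w ∈ center K → ∀ k ∈ K, (w : X) * k = k * w := fun w hw k hk =>
    congrArg Subtype.val (mem_center_iff.1 hw ⟨k, hk⟩).symm
  have hmove : ∀ t : K, t ∈ (T : Subgroup K) → ∀ b ∈ B, ∃ f : K, f ∈ center K ∧ (f : X) ∈ B ∧
      (t : X) * b * (t : X)⁻¹ = b * f := by
    intro t ht b hb
    obtain ⟨w, ⟨hwB, hwK⟩, hw⟩ := hcs.split b hb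
    have h1 : (⟨w, hwK⟩ : K)⁻¹ * (t * ⟨w, hwK⟩ * t⁻¹) ∈ center K := by
      refine (QuotientGroup.eq_one_iff _).1 ?_
      show q _ = 1
      rw [map_mul, map_mul, map_mul, ← hBcen _ (show (⟨w, hwK⟩ : K) ∈ BK from hwB) t ht, map_inv, map_inv]
      group
    refine ⟨_, h1, hcs.center_le _ h1, ?_⟩
    have hc : (t : X) * (b * w⁻¹) = b * w⁻¹ * (t : X) := mem_centralizer_iff.1 hw t t.2
    push_cast
    calc (t : X) * b * (t : X)⁻¹ = ((t : X) * (b * w⁻¹)) * w * (t : X)⁻¹ := by group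
      _ = _ := by rw [hc]; group
  have hcomm : ∀ s t : K, s ∈ (T : Subgroup K) → t ∈ (T : Subgroup K) → ⁅s, t⁆ ∈ BK := by
    intro s t hs ht
    refine mem_subgroupOf.2 (ho.self_cent _ ((hT _).1 ?_) fun b hb => ?_)
    · exact mul_mem (mul_mem (mul_mem hs ht) (inv_mem hs)) (inv_mem ht)
    · obtain ⟨f, hf, -, e⟩ := hmove s hs b hb
      obtain ⟨g, hg, -, e'⟩ := hmove t ht b hb
      have hsi : (s : X)⁻¹ * b * (s : X) = b * (f : X)⁻¹ := by
        calc (s : X)⁻¹ * b * (s : X) = (s : X)⁻¹ * (b * f * (f : X)⁻¹) * (s : X) := by group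
          _ = (s : X)⁻¹ * (b * f) * (s : X) * (f : X)⁻¹ := by
            rw [show (s : X)⁻¹ * (b * f * (f : X)⁻¹) * (s : X) = (s : X)⁻¹ * (b * f) * ((f : X)⁻¹ * (s : X)) by group,
              show (f : X)⁻¹ * (s : X) = (s : X) * (f : X)⁻¹ from
                congrArg Subtype.val (mem_center_iff.1 (inv_mem hf) s).symm]
            group
          _ = b * (f : X)⁻¹ := by rw [← e]; group
      have hti : (t : X)⁻¹ * b * (t : X) = b * (g : X)⁻¹ := by
        calc (t : X)⁻¹ * b * (t : X) = (t : X)⁻¹ * (b * g * (g : X)⁻¹) * (t : X) := by group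
          _ = (t : X)⁻¹ * (b * g) * (t : X) * (g : X)⁻¹ := by
            rw [show (t : X)⁻¹ * (b * g * (g : X)⁻¹) * (t : X) = (t : X)⁻¹ * (b * g) * ((g : X)⁻¹ * (t : X)) by group,
              show (g : X)⁻¹ * (t : X) = (t : X) * (g : X)⁻¹ from
                congrArg Subtype.val (mem_center_iff.1 (inv_mem hg) t).symm]
            group
          _ = b * (g : X)⁻¹ := by rw [← e']; group
      have c1 : (s : X) * (g : X)⁻¹ * (s : X)⁻¹ = (g : X)⁻¹ := by
        rw [show (s : X) * (g : X)⁻¹ = (g : X)⁻¹ * s from congrArg Subtype.val (mem_center_iff.1 (inv_mem hg) s)]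
        group
      have c2 : (t : X) * (f : X)⁻¹ * (t : X)⁻¹ = (f : X)⁻¹ := by
        rw [show (t : X) * (f : X)⁻¹ = (f : X)⁻¹ * t from congrArg Subtype.val (mem_center_iff.1 (inv_mem hf) t)]
        group
      have c3 : (s : X) * (f : X)⁻¹ * (s : X)⁻¹ = (f : X)⁻¹ := by
        rw [show (s : X) * (f : X)⁻¹ = (f : X)⁻¹ * s from congrArg Subtype.val (mem_center_iff.1 (inv_mem hf) s)]
        group
      have c4 : (g : X) * (f : X)⁻¹ * (g : X)⁻¹ = (f : X)⁻¹ := by
        rw [show (g : X) * (f : X)⁻¹ = (f : X)⁻¹ * g from congrArg Subtype.val (mem_center_iff.1 (inv_mem hf) g)]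
        group
      have key : (⁅s, t⁆ : K) * b * ((⁅s, t⁆ : K) : X)⁻¹ = b := by
        rw [commutatorElement_def]
        push_cast
        calc (s : X) * t * (s : X)⁻¹ * (t : X)⁻¹ * b * ((s : X) * t * (s : X)⁻¹ * (t : X)⁻¹)⁻¹
            = (s : X) * ((t : X) * ((s : X)⁻¹ * ((t : X)⁻¹ * b * (t : X)) * (s : X)) * (t : X)⁻¹) * (s : X)⁻¹ := by
              group
          _ = (s : X) * ((t : X) * (((s : X)⁻¹ * b * (s : X)) * ((s : X)⁻¹ * (g : X)⁻¹ * (s : X))) * (t : X)⁻¹) *
              (s : X)⁻¹ := by rw [hti]; group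
          _ = (s : X) * ((t : X) * (b * (f : X)⁻¹ * (g : X)⁻¹) * (t : X)⁻¹) * (s : X)⁻¹ := by
            rw [hsi, show (s : X)⁻¹ * (g : X)⁻¹ * (s : X) = (g : X)⁻¹ by
              conv_lhs => rw [← c1]
              group]
          _ = (s : X) * (((t : X) * b * (t : X)⁻¹) * ((t : X) * (f : X)⁻¹ * (t : X)⁻¹) *
              ((t : X) * (g : X)⁻¹ * (t : X)⁻¹)) * (s : X)⁻¹ := by group
          _ = (s : X) * (b * ((g : X) * (f : X)⁻¹ * (g : X)⁻¹)) * (s : X)⁻¹ := by
            rw [e', c2, show (t : X) * (g : X)⁻¹ * (t : X)⁻¹ = (g : X)⁻¹ by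
              rw [show (t : X) * (g : X)⁻¹ = (g : X)⁻¹ * t from congrArg Subtype.val (mem_center_iff.1 (inv_mem hg) t)]
              group]
            group
          _ = ((s : X) * b * (s : X)⁻¹) * ((s : X) * (f : X)⁻¹ * (s : X)⁻¹) := by rw [c4]; group
          _ = b := by rw [e, c3, mul_inv_cancel_right]
      rwa [mul_inv_eq_iff_eq_mul] at key
  -- the quotient has abelian Sylow subgroups
  have habel : ∀ a ∈ Tq, ∀ b ∈ Tq, a * b = b * a := by
    by_contra hno
    push Not at hno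
    obtain ⟨_, ⟨s, hs, rfl⟩, _, ⟨t, ht, rfl⟩, hne⟩ := hno
    set H₀ := B ⊔ (T : Subgroup K).map K.subtype with hH₀
    have hTP : (T : Subgroup K).map K.subtype ≤ (P : Subgroup X) := by
      rintro _ ⟨y, hy, rfl⟩; exact (hT y).1 hy
    have hPn : ∀ p ∈ (P : Subgroup X), p ∈ normalizer (B : Set X) := h.le_normalizer_sylow
    have hsup : ∀ Z : Subgroup X, Z ≤ (P : Subgroup X) → ∀ y ∈ B ⊔ Z, ∃ b ∈ B, ∃ w ∈ Z, y = b * w := by
      intro Z hZ y hy
      rw [← SetLike.mem_coe, coe_mul_of_right_le_normalizer_left (H := Z) (N := B) fun p hp => hPn p (hZ hp)] at hy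
      obtain ⟨b, hb, w, hw, rfl⟩ := hy
      exact ⟨b, hb, w, hw, rfl⟩
    have hH₀ab : ∀ a ∈ H₀, ∀ b ∈ H₀, ⁅a, b⁆ ∈ B := by
      intro a ha b hb
      obtain ⟨a₁, ha₁, _, ⟨a₂, ha₂, rfl⟩, rfl⟩ := hsup _ hTP a ha
      obtain ⟨b₁, hb₁, _, ⟨b₂, hb₂, rfl⟩, rfl⟩ := hsup _ hTP b hb
      have hconj : ∀ p ∈ (P : Subgroup X), ∀ c ∈ B, p * c * p⁻¹ ∈ B := fun p hp c hc =>
        (mem_normalizer_iff.1 (hPn p hp) c).1 hc
      have h3 : ((⁅a₂, b₂⁆ : K) : X) ∈ B := mem_subgroupOf.1 (hcomm a₂ b₂ ha₂ hb₂)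
      have e : ⁅a₁ * (a₂ : X), b₁ * (b₂ : X)⁆ = a₁ * ((a₂ : X) * b₁ * (a₂ : X)⁻¹) *
          ((⁅a₂, b₂⁆ : K) : X) * ((b₂ : X) * a₁⁻¹ * (b₂ : X)⁻¹) * b₁⁻¹ := by
        simp only [commutatorElement_def]; push_cast; group
      show ⁅a₁ * (a₂ : X), b₁ * (b₂ : X)⁆ ∈ B
      rw [e]
      exact mul_mem (mul_mem (mul_mem (mul_mem ha₁ (hconj _ ((hT a₂).1 ha₂) _ hb₁)) h3)
        (hconj _ ((hT b₂).1 hb₂) _ (inv_mem ha₁))) (inv_mem hb₁)
    have h4 := ho.bound H₀ le_sup_left (sup_le h.closed.1 hTP) hH₀ab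
    -- two elements already give that much
    set Z₁ := closure ({(s : X)} : Set X)
    set Z₂ := closure ({(s : X), (t : X)} : Set X)
    have hZ₁ : Z₁ ≤ (P : Subgroup X) := (closure_le _).2 (by rintro _ rfl; exact (hT s).1 hs)
    have hZ₂ : Z₂ ≤ (P : Subgroup X) := (closure_le _).2 (by
      rintro _ (rfl | rfl)
      exacts [(hT s).1 hs, (hT t).1 ht])
    have hdouble : ∀ H H' : Subgroup X, H < H' → H' ≤ (P : Subgroup X) → 2 * Nat.card H ≤ Nat.card H' := by
      intro H H' hlt hP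
      obtain ⟨m, hm⟩ := card_dvd_of_le hlt.le
      obtain ⟨k, hk⟩ := IsPGroup.iff_card.1 (P.2.to_le hP)
      rcases Nat.lt_or_ge m 2 with hm2 | hm2
      · have hH'0 : 0 < Nat.card H' := Nat.card_pos
        have hm1 : m = 1 := by
          rcases m with _ | _ | m
          · simp at hm; omega
          · rfl
          · omega
        rw [hm1, mul_one] at hm
        exact absurd (Subgroup.eq_of_le_of_card_ge hlt.le hm.le) hlt.ne
      · rw [hm]; calc 2 * Nat.card H = Nat.card H * 2 := by ring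
          _ ≤ _ := Nat.mul_le_mul_left _ hm2
    have hs₁ : B < B ⊔ Z₁ := by
      refine lt_of_le_of_ne le_sup_left fun e => hne ?_
      have hsB : s ∈ BK := mem_subgroupOf.2 (e ▸ mem_sup_right (subset_closure rfl))
      exact hBcen s hsB t ht
    have hs₂ : B ⊔ Z₁ < B ⊔ Z₂ := by
      refine lt_of_le_of_ne (sup_le_sup_left (Subgroup.closure_mono (by rintro _ rfl; exact Or.inl rfl)) _) fun e => hne ?_
      obtain ⟨b, hb, w, hw, ew⟩ := hsup _ hZ₁ (t : X) (e ▸ mem_sup_right (subset_closure (Or.inr rfl)))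
      rw [show Z₁ = zpowers (s : X) from (zpowers_eq_closure _).symm] at hw
      obtain ⟨i, rfl⟩ := mem_zpowers_iff.1 hw
      have hbK : b ∈ K := by
        have : b = (t : X) * ((s : X) ^ i)⁻¹ := by rw [ew]; group
        rw [this]; exact mul_mem t.2 (inv_mem (zpow_mem s.2 i))
      have et : t = ⟨b, hbK⟩ * s ^ i := Subtype.ext (by push_cast; exact ew)
      rw [et, map_mul, map_zpow, ← mul_assoc, ← hBcen _ (show (⟨b, hbK⟩ : K) ∈ BK from hb) s hs, mul_assoc,
        mul_assoc, (Commute.self_zpow (q s) i).eq]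
    have hle₂ : B ⊔ Z₂ ≤ H₀ := sup_le_sup_left ((closure_le _).2 (by
      rintro _ (rfl | rfl)
      exacts [⟨s, hs, rfl⟩, ⟨t, ht, rfl⟩])) _
    have heq : H₀ = B ⊔ Z₂ := (Subgroup.eq_of_le_of_card_ge hle₂ (by
      have h5 := hdouble _ _ hs₁ (sup_le h.closed.1 hZ₁)
      have h6 := hdouble _ _ hs₂ (sup_le h.closed.1 hZ₂)
      omega)).symm
    -- so the image is generated by two elements and central ones
    set Z : Set Tq := {w | (w : K ⧸ center K) ∈ BK.map q}
    set x' : Tq := ⟨q s, mem_map_of_mem q hs⟩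
    set y' : Tq := ⟨q t, mem_map_of_mem q ht⟩
    have hZc : ∀ a ∈ Z, ∀ b : Tq, a * b = b * a := by
      rintro a ⟨a', ha', ea⟩ b
      obtain ⟨b', hb', eb⟩ := b.2
      refine Subtype.ext ?_
      show (a : K ⧸ center K) * b = b * a
      rw [← ea, ← eb]
      exact hBcen a' ha' b' hb'
    have hgen : closure ({x', y'} ∪ Z) = ⊤ := by
      refine top_le_iff.1 fun w _ => ?_
      obtain ⟨a, ha, ea⟩ := w.2
      have hind : ∀ c ∈ Z₂, ∃ c' : K, (c' : X) = c ∧ ∃ hc' : q c' ∈ Tq, (⟨q c', hc'⟩ : Tq) ∈ closure ({x', y'} ∪ Z) := by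
        intro c hc
        induction hc using Subgroup.closure_induction with
        | mem p hp =>
          rcases hp with rfl | rfl
          · exact ⟨s, rfl, x'.2, subset_closure (Or.inl (Or.inl rfl))⟩
          · exact ⟨t, rfl, y'.2, subset_closure (Or.inl (Or.inr rfl))⟩
        | one =>
          refine ⟨1, rfl, by rw [map_one]; exact one_mem _, ?_⟩
          have e : (⟨q 1, by rw [map_one]; exact one_mem _⟩ : Tq) = 1 := Subtype.ext (map_one q)
          rw [e]; exact one_mem _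
        | mul p p' _ _ hp hp' =>
          obtain ⟨c, rfl, h1, h2⟩ := hp
          obtain ⟨c', rfl, h1', h2'⟩ := hp'
          exact ⟨c * c', rfl, by rw [map_mul]; exact mul_mem h1 h1', by
            convert mul_mem h2 h2'; exact map_mul q c c'⟩
        | inv p _ hp =>
          obtain ⟨c, rfl, h1, h2⟩ := hp
          exact ⟨c⁻¹, rfl, by rw [map_inv]; exact inv_mem h1, by
            convert inv_mem h2; exact map_inv q c⟩
      obtain ⟨b, hb, c, hc, ec⟩ := hsup _ hZ₂ (a : X) (heq.le (mem_sup_right ⟨a, ha, rfl⟩))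
      obtain ⟨c', rfl, hc', hcl⟩ := hind c hc
      have hbK : b ∈ K := by
        have : b = (a : X) * (c' : X)⁻¹ := by rw [ec]; group
        rw [this]; exact mul_mem a.2 (inv_mem c'.2)
      have hbq : q ⟨b, hbK⟩ ∈ BK.map q := mem_map_of_mem q (show (⟨b, hbK⟩ : K) ∈ BK from hb)
      have e : w = (⟨q ⟨b, hbK⟩, hscq.1 hbq⟩ : Tq) * ⟨q c', hc'⟩ := Subtype.ext (by
        show (w : K ⧸ center K) = q ⟨b, hbK⟩ * q c'
        rw [← ea, ← map_mul]
        congr 1
        exact Subtype.ext (by push_cast; exact ec))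
      rw [e]
      exact mul_mem (subset_closure (Or.inr hbq)) hcl
    set c : K ⧸ center K := q ⁅s, t⁆ with hc
    have hcB : ⁅s, t⁆ ∈ BK := hcomm s t hs ht
    have hc2 : c * c = 1 := by
      rw [hc, ← map_mul]
      exact (QuotientGroup.eq_one_iff _).2 (hcs.sq_central _ hcB)
    have hc1 : c ≠ 1 := fun e => hne (by
      rw [hc, map_commutatorElement, commutatorElement_eq_one_iff_mul_comm] at e
      exact e)
    have hcT : c ∈ Tq := hscq.1 (mem_map_of_mem q hcB)
    have hcx : ((⁅x', y'⁆ : Tq) : K ⧸ center K) = c := by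
      rw [hc, map_commutatorElement]; rfl
    have hcz := commutator_mem_zpowers hZc hgen (hZc _ (by
      show ((⁅x', y'⁆ : Tq) : K ⧸ center K) ∈ BK.map q
      rw [hcx]; exact mem_map_of_mem q hcB))
    obtain ⟨τ, hτ, htr⟩ := hM.torus
    have hτc : τ * c * τ⁻¹ = c := by
      have hm : ∀ a ∈ Tq, τ * a * τ⁻¹ ∈ Tq := fun a ha => (mem_normalizer_iff.1 hτ a).1 ha
      have h1 := hcz ⟨_, hm _ x'.2⟩ ⟨_, hm _ y'.2⟩
      obtain ⟨i, hi⟩ := mem_zpowers_iff.1 h1
      have h2 : c ^ i = τ * c * τ⁻¹ := by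
        have h3 := congrArg Subtype.val hi
        rw [SubgroupClass.coe_zpow, hcx] at h3
        rw [h3, ← hcx]
        simp only [commutatorElement_def]
        push_cast
        group
      rcases Int.even_or_odd i with ⟨j, rfl⟩ | ⟨j, rfl⟩
      · rw [← two_mul, zpow_mul, show c ^ (2 : ℤ) = 1 by rw [zpow_two, hc2], one_zpow] at h2
        have h4 : c = τ⁻¹ * (τ * c * τ⁻¹) * τ := by group
        rw [← h2] at h4
        exact absurd (by simpa using h4) hc1
      · rw [zpow_add, zpow_mul, show c ^ (2 : ℤ) = 1 by rw [zpow_two, hc2], one_zpow, one_mul, zpow_one] at h2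
        exact h2.symm
    have hτi : ∀ i : ℕ, τ ^ i * c * (τ ^ i)⁻¹ = c := by
      intro i
      induction i with
      | zero => simp
      | succ i ih =>
        rw [pow_succ, show τ ^ i * τ * c * (τ ^ i * τ)⁻¹ = τ ^ i * (τ * c * τ⁻¹) * (τ ^ i)⁻¹ by group, hτc, ih]
    have hsub : {y : K ⧸ center K | y ∈ Tq ∧ y * y = 1} ⊆ {1, c} := by
      rintro y ⟨hy, hyy⟩
      by_cases hy1 : y = 1
      · exact Or.inl hy1
      obtain ⟨i, hi⟩ := htr c hcT hc2 hc1 y hy hyy hy1
      exact Or.inr (hi.symm.trans (hτi i))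
    have h5 : ({y : K ⧸ center K | y ∈ Tq ∧ y * y = 1}).ncard ≤ 2 :=
      (Set.ncard_le_ncard hsub (Set.toFinite _)).trans ((Set.ncard_insert_le _ _).trans (by simp))
    have h6 : 4 ≤ ({y : K ⧸ center K | y ∈ Tq ∧ y * y = 1}).ncard := by
      rw [← Nat.card_coe_set_eq]; exact hM.four
    omega
  have hcf : Walter.CentForm (K ⧸ center K) := Walter.classified _ inferInstance hcs.noncomm fun R a b => by
    let e := Sylow.equiv R Ts
    refine e.injective ?_
    rw [map_mul, map_mul]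
    exact Subtype.ext (habel _ (hTs ▸ (e a).2) _ (hTs ▸ (e b).2))
  refine (hcs.sq_mem ⟨x, hxK⟩ hx ?_).1
  have h1 := (Walter.Rank.sylow_elementary inferInstance hcf Ts).2 (q ⟨x, hxK⟩)
    (by rw [hTs]; exact mem_map_of_mem q ((hT _).2 hx))
  rw [← map_mul] at h1
  exact (QuotientGroup.eq_one_iff _).1 h1

/-- The components are simple. -/
theorem center_eq_bot (h : Pre P B) (hI : Inputs.{u}) (ho : Outer P B σ) (hK : Cfsg.IsComponent K) :
    center K = ⊥ := by
  haveI := Fact.mk Nat.prime_two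
  obtain ⟨T, hT, -⟩ := h.sylowK hK
  haveI : IsMulCommutative (T : Subgroup K) := isMulCommutative_iff.2 fun a b => Subtype.ext (Subtype.ext
    (comm_of_sq ho.sq (sylow_le h hI ho hK ((hT _).1 a.2) a.1.2) (sylow_le h hI ho hK ((hT _).1 b.2) b.1.2)))
  refine (Subgroup.eq_bot_iff_forall _).2 fun z hz => ?_
  haveI := hK.2.1
  exact CfsgLib.Fusion.central_inf_commutator_eq_one (T : Subgroup K) T.card_coprime_index hz
    ((Group.IsPerfect.commutator_eq_top (G := K)).symm ▸ mem_top z) ((hT z).2 (h.center_le_sylow hK hz P))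

end CfsgLib.Spor.M24SylowTwo.Layer
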