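import Cfsg.Agent.Lib.Spor.M24SylowTwo.LayerComp
import Mathlib.GroupTheory.Perm.Cycle.Type

/-!
# The distinguished element centralizes the components' parts of `B`
-/

set_option autoImplicit false
set_option linter.style.haveILetI false

namespace CfsgLib.Spor.M24SylowTwo.Layer

open Subgroup CfsgLib.Gold.Struct
open scoped commutatorElement

universe u

variable {X : Type u} [Group X] [Finite X] {P : Sylow 2 X} {B K : Subgroup X} {W : Type u} [Group W]
  {σ : W →* MulAut X}

omit [Finite X] in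
/-- Acting by a product. -/
theorem act_mul (w w' : W) (x : X) : σ (w * w') x = σ w (σ w' x) := by rw [map_mul]; rfl

omit [Finite X] in
/-- Acting by an element and its inverse. -/
theorem act_inv_act (w : W) (x : X) : σ w⁻¹ (σ w x) = x := by
  rw [← act_mul, inv_mul_cancel, map_one]; rfl

omit [Finite X] in
theorem act_act_inv (w : W) (x : X) : σ w (σ w⁻¹ x) = x := by
  rw [← act_mul, mul_inv_cancel, map_one]; rfl

omit [Finite X] in
/-- The image of a component under the action is one. -/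
theorem act_component (hK : Cfsg.IsComponent K) (w : W) : Cfsg.IsComponent (K.map (σ w).toMonoidHom) :=
  CfsgLib.Coprime.isComponent_map_equiv _ hK

omit [Finite X] in
theorem mem_act {w : W} {x : X} : x ∈ K.map (σ w).toMonoidHom ↔ σ w⁻¹ x ∈ K := by
  constructor
  · rintro ⟨k, hk, rfl⟩
    show σ w⁻¹ (σ w k) ∈ K
    rwa [act_inv_act]
  · exact fun h => ⟨_, h, act_act_inv w x⟩

omit [Finite X] in
theorem act_map_mul (w w' : W) :
    K.map (σ (w * w')).toMonoidHom = (K.map (σ w').toMonoidHom).map (σ w).toMonoidHom := by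
  ext x
  rw [mem_act, mem_act, mem_act, mul_inv_rev, act_mul]

omit [Finite X] in
theorem act_map_one : K.map (σ (1 : W)).toMonoidHom = K := by
  ext x
  rw [mem_act, inv_one, map_one]; rfl

omit [Finite X] in
theorem commute_of_ne {L : Subgroup X} (hK : Cfsg.IsComponent K) (hL : Cfsg.IsComponent L) (hne : K ≠ L)
    {x y : X} (hx : x ∈ K) (hy : y ∈ L) [Finite X] : x * y = y * x :=
  CfsgLib.Coprime.commutator_eq_bot_iff_forall.1 (CfsgLib.Coprime.components_commute hK hL hne) x hx y hy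

omit [Finite X] in
/-- The moving map. -/
def move (σ : W →* MulAut X) (z : W) (b : X) : X := σ z b * b⁻¹

set_option maxHeartbeats 1000000 in
/-- The distinguished element centralizes `B ∩ K` for every component `K`. -/
theorem move_eq_one [Finite W] (h : Pre P B) (hI : Inputs.{u}) (ho : Outer P B σ) {u v : W} (he : Elt B σ u v)
    (hK : Cfsg.IsComponent K) {b : X} (hb : b ∈ B) (hbK : b ∈ K) : σ ⁅u, v⁆ b = b := by
  classical
  haveI := Fact.mk Nat.prime_two
  set z := ⁅u, v⁆ with hz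
  have hcomm : ∀ {a c : X}, a ∈ B → c ∈ B → a * c = c * a := fun ha hc => comm_of_sq ho.sq ha hc
  have hZK := center_eq_bot h hI ho hK
  have hcen : ∀ y ∈ K, (∀ k ∈ K, y * k = k * y) → y = 1 := fun y hy hk => by
    have h1 : (⟨y, hy⟩ : K) ∈ center K := mem_center_iff.2 fun k => Subtype.ext (hk k k.2).symm
    rw [hZK, Subgroup.mem_bot] at h1
    exact congrArg Subtype.val h1
  have hmove : ∀ a ∈ B, ∀ w, σ w (move σ z a) = move σ z a := fun a ha => he.move a ha
  have hmB : ∀ a ∈ B, move σ z a ∈ B := fun a ha => mul_mem (ho.stab z a ha) (inv_mem ha)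
  have hmmul : ∀ a ∈ B, ∀ c ∈ B, move σ z (a * c) = move σ z a * move σ z c := fun a ha c hc => by
    simp only [move, map_mul, mul_inv_rev]
    calc σ z a * σ z c * (c⁻¹ * a⁻¹) = σ z a * (σ z c * (c⁻¹ * a⁻¹)) := by group
      _ = σ z a * ((σ z c * c⁻¹) * a⁻¹) := by group
      _ = σ z a * (a⁻¹ * (σ z c * c⁻¹)) := by
        rw [hcomm (mul_mem (ho.stab z c hc) (inv_mem hc)) (inv_mem ha)]
      _ = _ := by group
  -- `z` fixes `K`
  have hzK : K.map (σ z).toMonoidHom = K := by
    by_contra hne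
    obtain ⟨b₁, hb₁, hb₁K⟩ : ∃ a ∈ B, a ∈ K ∧ a ≠ 1 := by
      obtain ⟨a, ha, hac⟩ := h.exists_noncentral hK
      exact ⟨a, ha, a.2, fun e => hac ((show a = 1 from Subtype.ext e) ▸ one_mem _)⟩
    set K' := K.map (σ z).toMonoidHom
    have hK' : Cfsg.IsComponent K' := act_component hK z
    set a' := σ z b₁
    have ha'K : a' ∈ K' := ⟨b₁, hb₁K.1, rfl⟩
    have ha'1 : ∀ k ∈ K', (∀ l ∈ K', k * l = l * k) → k = 1 := fun k hk hl => by
      have h1 : (⟨k, hk⟩ : K') ∈ center K' := mem_center_iff.2 fun l => Subtype.ext (hl l l.2).symm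
      rw [center_eq_bot h hI ho hK', Subgroup.mem_bot] at h1
      exact congrArg Subtype.val h1
    have pair : ∀ w : W, ∀ L : Subgroup X, Cfsg.IsComponent L → (L = K ∨ L = K') →
        (L.map (σ w).toMonoidHom = K ∨ L.map (σ w).toMonoidHom = K') := by
      intro w L hL hLK
      by_contra hno
      push Not at hno
      set L' := L.map (σ w).toMonoidHom
      have hL' : Cfsg.IsComponent L' := act_component hL w
      -- `L'` centralizes the moved element
      have h1 : ∀ l ∈ L', (a' * b₁⁻¹) * l = l * (a' * b₁⁻¹) := fun l hl => by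
        have e1 : Commute a' l := commute_of_ne hK' hL' hno.2.symm ha'K hl
        have e2 : Commute b₁ l := commute_of_ne hK hL' hno.1.symm hb₁K.1 hl
        exact (e1.mul_left e2.inv_left).eq
      have h2 : ∀ l ∈ L, (a' * b₁⁻¹) * l = l * (a' * b₁⁻¹) := fun l hl => by
        refine (σ w).injective ?_
        have e1 : σ w (a' * b₁⁻¹) = a' * b₁⁻¹ := hmove b₁ hb₁ w
        rw [map_mul (σ w) (a' * b₁⁻¹) l, map_mul (σ w) l (a' * b₁⁻¹), e1]
        exact h1 _ ⟨l, hl, rfl⟩
      rcases hLK with rfl | rfl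
      · refine hb₁K.2 (hcen _ hb₁K.1 fun k hk => ?_)
        have e1 : Commute a' k := commute_of_ne hK' hK hne ha'K hk
        have e2 : Commute (a' * b₁⁻¹) k := h2 k hk
        have e3 := e1.inv_left.mul_left e2
        rw [inv_mul_cancel_left] at e3
        simpa using e3.inv_left.eq
      · refine hb₁K.2 ((σ z).injective ((ha'1 _ ha'K fun k hk => ?_).trans (map_one _).symm))
        have e1 : Commute b₁ k := commute_of_ne hK hK' (Ne.symm hne) hb₁K.1 hk
        have e2 : Commute (a' * b₁⁻¹) k := h2 k hk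
        have e3 := e2.mul_left e1
        rw [inv_mul_cancel_right] at e3
        exact e3.eq
    have inj : ∀ (w : W) (L L' : Subgroup X), L.map (σ w).toMonoidHom = L'.map (σ w).toMonoidHom → L = L' :=
      fun w L L' e => map_injective (f := (σ w).toMonoidHom) (σ w).injective e
    -- each element fixes or swaps, so the commutator fixes
    have cases : ∀ w : W, (K.map (σ w).toMonoidHom = K ∧ K'.map (σ w).toMonoidHom = K' ∧
        K.map (σ w⁻¹).toMonoidHom = K ∧ K'.map (σ w⁻¹).toMonoidHom = K') ∨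
        (K.map (σ w).toMonoidHom = K' ∧ K'.map (σ w).toMonoidHom = K ∧
        K.map (σ w⁻¹).toMonoidHom = K' ∧ K'.map (σ w⁻¹).toMonoidHom = K) := by
      intro w
      have hinv : ∀ L L' : Subgroup X, L.map (σ w).toMonoidHom = L' → L'.map (σ w⁻¹).toMonoidHom = L := by
        intro L L' e
        rw [← e, ← act_map_mul, inv_mul_cancel, act_map_one]
      rcases pair w K hK (Or.inl rfl) with e | e
      · have e' : K'.map (σ w).toMonoidHom = K' := (pair w K' hK' (Or.inr rfl)).resolve_left fun e' =>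
          hne (inj w _ _ (e'.trans e.symm))
        exact Or.inl ⟨e, e', hinv _ _ e, hinv _ _ e'⟩
      · have e' : K'.map (σ w).toMonoidHom = K := (pair w K' hK' (Or.inr rfl)).resolve_right fun e' =>
          hne (inj w _ _ (e'.trans e.symm))
        exact Or.inr ⟨e, e', hinv _ _ e', hinv _ _ e⟩
    refine hne ?_
    show K.map (σ z).toMonoidHom = K
    rw [hz, commutatorElement_def, act_map_mul, act_map_mul, act_map_mul]
    rcases cases u with ⟨a1, a2, a3, a4⟩ | ⟨a1, a2, a3, a4⟩ <;>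
      rcases cases v with ⟨c1, c2, c3, c4⟩ | ⟨c1, c2, c3, c4⟩ <;>
      simp only [a1, a2, a3, a4, c1, c2, c3, c4]
  have hσzK : ∀ {y : X}, y ∈ K → σ z y ∈ K := fun {y} hy => hzK.le ⟨y, hy, rfl⟩
  have hmK : ∀ a ∈ K, move σ z a ∈ K := fun a ha => mul_mem (hσzK ha) (inv_mem ha)
  suffices key : ∀ a ∈ B, a ∈ K → move σ z a = 1 by
    exact mul_inv_eq_one.1 (key b hb hbK)
  -- a moved component
  by_cases hall : ∀ w : W, K.map (σ w).toMonoidHom = K
  swap
  · push Not at hall
    obtain ⟨w, hw⟩ := hall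
    intro a ha haK
    refine hcen _ (hmK a haK) fun k hk => ?_
    refine commute_of_ne (act_component hK w) hK hw ⟨_, hmK a haK, hmove a ha w⟩ hk
  -- an invariant component
  have hKst : ∀ (w : W) {y : X}, y ∈ K → σ w y ∈ K := fun w y hy => (hall w).le ⟨y, hy, rfl⟩
  obtain ⟨T, hT, -⟩ := h.sylowK hK
  have hTB : ∀ x : K, x ∈ (T : Subgroup K) ↔ (x : X) ∈ B := fun x =>
    ⟨fun hx => sylow_le h hI ho hK ((hT x).1 hx) x.2, fun hx => (hT x).2 (h.closed.1 hx)⟩
  haveI hTc : IsMulCommutative (T : Subgroup K) := isMulCommutative_iff.2 fun a c => Subtype.ext (Subtype.ext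
    (hcomm ((hTB a.1).1 a.2) ((hTB c.1).1 c.2)))
  set P₁ := B ⊓ K with hP₁
  by_contra hno
  push Not at hno
  obtain ⟨a₀, ha₀B, ha₀K, hp1⟩ := hno
  set p := move σ z a₀ with hp
  have hpP : p ∈ P₁ := ⟨hmB a₀ ha₀B, hmK a₀ ha₀K⟩
  have hzz : ∀ a ∈ B, σ z (σ z a) = a := by
    intro a ha
    have e : σ z a = move σ z a * a := by simp [move]
    rw [e, map_mul, hmove a ha z, e, ← mul_assoc, ho.sq _ (hmB a ha), one_mul]
  -- the fixed elements of `P₁` are centralized by everything
  have hfix : ∀ q ∈ P₁, σ z q = q → ∀ w, σ w q = q := by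
    intro q hq hqz
    by_cases hq1 : q = 1
    · intro w; rw [hq1, map_one]
    haveI hcs : IsSimpleGroup (K ⧸ center K) := (h.compSpec hI hK).simple
    -- odd transitive automorphisms
    set N := normalizer ((T : Subgroup K) : Set K) with hN
    set φ := normalizerMonoidHom (T : Subgroup K) with hφ
    set M := φ.range with hM
    have hodd : ¬ 2 ∣ Nat.card M := by
      intro h2
      have hTk : (T : Subgroup K).subgroupOf N ≤ φ.ker := fun n hn => by
        rw [MonoidHom.mem_ker]
        refine MulEquiv.ext fun t => Subtype.ext ?_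
        show (n : K) * t * (n : K)⁻¹ = t
        rw [show (n : K) * t = t * n from congrArg Subtype.val (isMulCommutative_iff.1 hTc ⟨n, hn⟩ t),
          mul_inv_cancel_right]
      have h3 : Nat.card M ∣ ((T : Subgroup K).subgroupOf N).index := by
        rw [hM, ← Subgroup.index_ker]; exact index_dvd_of_le hTk
      exact T.not_dvd_index ((h2.trans h3).trans (relIndex_dvd_index_of_le le_normalizer))
    -- the torus
    obtain ⟨τ₀, hτ₀, htr⟩ : ∃ n ∈ N, ∀ x ∈ (T : Subgroup K), x ≠ 1 → ∀ y ∈ (T : Subgroup K), y ≠ 1 →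
        ∃ i : ℕ, n ^ i * x * (n ^ i)⁻¹ = y := by
      set f := QuotientGroup.mk' (center K)
      have hfs : Function.Surjective f := QuotientGroup.mk'_surjective _
      have hfi : Function.Injective f := by
        rw [← MonoidHom.ker_eq_bot_iff, QuotientGroup.ker_mk']; exact hZK
      let Ts : Sylow 2 (K ⧸ center K) := T.mapSurjective hfs
      have hTs : (Ts : Subgroup (K ⧸ center K)) = (T : Subgroup K).map f := Sylow.coe_mapSurjective hfs T
      have hsqT : ∀ x ∈ (T : Subgroup K), x * x = 1 := fun x hx => Subtype.ext (ho.sq _ ((hTB x).1 hx))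
      have hnc := (h.compSpec hI hK).noncomm
      have hab : ∀ (R : Sylow 2 (K ⧸ center K)) (a c : (R : Subgroup (K ⧸ center K))), a * c = c * a := by
        intro R a c
        let e := Sylow.equiv R Ts
        refine e.injective (Subtype.ext ?_)
        rw [map_mul, map_mul]
        obtain ⟨a', ha', ea⟩ := hTs.le (e a).2
        obtain ⟨c', hc', ec⟩ := hTs.le (e c).2
        show ((e a : (Ts : Subgroup (K ⧸ center K))) : K ⧸ center K) * e c = (e c : K ⧸ center K) * e a
        rw [← ea, ← ec, ← map_mul, ← map_mul,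
          show a' * c' = c' * a' from congrArg Subtype.val (isMulCommutative_iff.1 hTc ⟨a', ha'⟩ ⟨c', hc'⟩)]
      have hM' := hI.model (K ⧸ center K) inferInstance hnc (Or.inl (Walter.classified _ inferInstance hnc hab)) Ts
      rw [hTs] at hM'
      obtain ⟨τ, hτ, htr⟩ := hM'.torus
      obtain ⟨n, rfl⟩ := hfs τ
      refine ⟨n, mem_normalizer_fintype fun y hy => ?_, fun x hx hx1 y hy hy1 => ?_⟩
      · obtain ⟨w, hw, e⟩ := (mem_normalizer_iff.1 hτ (f y)).1 (mem_map_of_mem f hy)
        rw [← map_inv, ← map_mul, ← map_mul] at e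
        exact hfi e ▸ hw
      · obtain ⟨i, hi⟩ := htr (f x) (mem_map_of_mem f hx) (by rw [← map_mul, hsqT x hx, map_one])
          (fun e => hx1 (hfi (e.trans (map_one f).symm))) (f y) (mem_map_of_mem f hy)
          (by rw [← map_mul, hsqT y hy, map_one]) (fun e => hy1 (hfi (e.trans (map_one f).symm)))
        rw [← map_pow, ← map_inv, ← map_mul, ← map_mul] at hi
        exact ⟨i, hfi hi⟩
    -- elements of `N` carrying `p` to `q`, up to their action
    let pK : (T : Subgroup K) := ⟨⟨p, hpP.2⟩, (hTB _).2 hpP.1⟩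
    let qK : (T : Subgroup K) := ⟨⟨q, hq.2⟩, (hTB _).2 hq.1⟩
    let Y := {m : M // (m : MulAut (T : Subgroup K)) pK = qK}
    obtain ⟨m₀, hm₀⟩ : ∃ m : M, (m : MulAut (T : Subgroup K)) pK = qK := by
      obtain ⟨i, hi⟩ := htr pK pK.2 (fun e => hp1 (congrArg Subtype.val e)) qK qK.2
        (fun e => hq1 (congrArg Subtype.val e))
      refine ⟨⟨φ (⟨τ₀, hτ₀⟩ ^ i), ⟨_, rfl⟩⟩, Subtype.ext ?_⟩
      show ((⟨τ₀, hτ₀⟩ ^ i : N) : K) * (pK : K) * ((⟨τ₀, hτ₀⟩ ^ i : N) : K)⁻¹ = qK
      push_cast
      exact hi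
    -- the action of `z` on them
    have hzT : ∀ x : K, x ∈ (T : Subgroup K) → (⟨σ z x, hσzK x.2⟩ : K) ∈ (T : Subgroup K) := fun x hx =>
      (hTB _).2 (ho.stab z _ ((hTB x).1 hx))
    let ζ : MulAut (T : Subgroup K) :=
      { toFun := fun t => ⟨⟨σ z (t : K), hσzK (t : K).2⟩, hzT _ t.2⟩
        invFun := fun t => ⟨⟨σ z (t : K), hσzK (t : K).2⟩, hzT _ t.2⟩
        left_inv := fun t => Subtype.ext (Subtype.ext (hzz _ ((hTB _).1 t.2)))
        right_inv := fun t => Subtype.ext (Subtype.ext (hzz _ ((hTB _).1 t.2)))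
        map_mul' := fun t t' => Subtype.ext (Subtype.ext (by simp)) }
    have hζinv : ζ⁻¹ = ζ := MulEquiv.ext fun t => rfl
    have hζM : ∀ m ∈ M, ζ * m * ζ⁻¹ ∈ M := by
      rintro _ ⟨⟨n, hn⟩, rfl⟩
      have hn' : (⟨σ z (n : X), hσzK n.2⟩ : K) ∈ N := by
        refine mem_normalizer_fintype fun y hy => (hTB _).2 ?_
        show σ z (n : X) * (y : X) * (σ z (n : X))⁻¹ ∈ B
        have hy' : (⟨σ z (y : X), hσzK y.2⟩ : K) ∈ (T : Subgroup K) := hzT y hy
        have h1 := (hTB _).1 ((mem_normalizer_iff.1 hn _).1 hy')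
        have h2 := ho.stab z _ h1
        push_cast at h2
        rwa [map_mul, map_mul, map_inv, hzz _ ((hTB y).1 hy)] at h2
      refine ⟨⟨_, hn'⟩, MulEquiv.ext fun t => Subtype.ext (Subtype.ext ?_)⟩
      rw [hζinv]
      show σ z (n : X) * ((t : K) : X) * (σ z (n : X))⁻¹ = σ z ((n : X) * σ z ((t : K) : X) * (n : X)⁻¹)
      rw [map_mul, map_mul, map_inv, hzz _ ((hTB _).1 t.2)]
    have hζp : ∀ {x : (T : Subgroup K)}, σ z ((x : K) : X) = ((x : K) : X) → ζ x = x := fun {x} e =>
      Subtype.ext (Subtype.ext e)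
    let f : Y → Y := fun m => ⟨⟨ζ * (m.1 : MulAut (T : Subgroup K)) * ζ⁻¹, hζM _ m.1.2⟩, by
      show ζ ((m.1 : MulAut (T : Subgroup K)) (ζ⁻¹ pK)) = qK
      rw [hζinv, hζp (x := pK) (hmove a₀ ha₀B z), m.2, hζp (x := qK) hqz]⟩
    have hff : Function.Involutive f := fun m => Subtype.ext (Subtype.ext (by
      show ζ * (ζ * _ * ζ⁻¹) * ζ⁻¹ = _
      rw [hζinv, show ζ * (ζ * (m.1 : MulAut (T : Subgroup K)) * ζ) * ζ =
        (ζ * ζ) * (m.1 : MulAut (T : Subgroup K)) * (ζ * ζ) by group]
      conv_lhs => rw [show ζ * ζ = 1 by nth_rewrite 1 [← hζinv]; exact inv_mul_cancel ζ]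
      rw [one_mul, mul_one]))
    let H₀ : Subgroup M :=
      { carrier := {m | (m : MulAut (T : Subgroup K)) pK = pK}
        one_mem' := rfl
        mul_mem' := fun {m m'} hm hm' => by
          show (m : MulAut (T : Subgroup K)) ((m' : MulAut (T : Subgroup K)) pK) = pK
          rw [hm', hm]
        inv_mem' := fun {m} hm => by
          show ((m : MulAut (T : Subgroup K)))⁻¹ pK = pK
          conv_lhs => rw [← (hm : (m : MulAut (T : Subgroup K)) pK = pK)]
          exact MulEquiv.symm_apply_apply _ _ }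
    haveI : Fintype Y := Fintype.ofFinite _
    have hYodd : ¬ 2 ∣ Fintype.card Y := by
      rw [← Nat.card_eq_fintype_card]
      have e : Nat.card Y = Nat.card H₀ := (Nat.card_congr
        { toFun := fun m : H₀ => (⟨m₀ * m.1, by
            show (m₀ : MulAut (T : Subgroup K)) ((m.1 : MulAut (T : Subgroup K)) pK) = qK
            rw [(m.2 : (m.1 : MulAut (T : Subgroup K)) pK = pK), hm₀]⟩ : Y)
          invFun := fun m => ⟨m₀⁻¹ * m.1, by
            show (m₀ : MulAut (T : Subgroup K))⁻¹ ((m.1 : MulAut (T : Subgroup K)) pK) = pK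
            rw [m.2]
            conv_lhs => rw [← hm₀]
            exact MulEquiv.symm_apply_apply _ _⟩
          left_inv := fun m => Subtype.ext (inv_mul_cancel_left _ _)
          right_inv := fun m => Subtype.ext (mul_inv_cancel_left _ _) }).symm
      rw [e]
      exact fun h2 => hodd (h2.trans (Subgroup.card_subgroup_dvd_card H₀))
    obtain ⟨m, hm⟩ := Equiv.Perm.exists_fixed_point_of_prime hYodd (σ := hff.toPerm) (n := 1)
      (Equiv.ext fun x => hff x)
    have hm' : ζ * (m.1 : MulAut (T : Subgroup K)) * ζ⁻¹ = m.1 := congrArg (fun y : Y => (y.1 : MulAut (T : Subgroup K))) hm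
    let aK : (T : Subgroup K) := ⟨⟨a₀, ha₀K⟩, (hTB _).2 ha₀B⟩
    set b' : X := ((((m.1 : MulAut (T : Subgroup K)) aK : (T : Subgroup K)) : K) : X) with hb'
    have hb'B : b' ∈ B := (hTB _).1 ((m.1 : MulAut (T : Subgroup K)) aK).2
    have hqe : q = move σ z b' := by
      have h1 : qK = ζ ((m.1 : MulAut (T : Subgroup K)) aK) * ((m.1 : MulAut (T : Subgroup K)) aK)⁻¹ := by
        have h2 : pK = ζ aK * aK⁻¹ := Subtype.ext (Subtype.ext rfl)
        refine (m.2.symm.trans ((congrArg _ h2).trans (by rw [map_mul, map_inv]))).trans ?_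
        congr 1
        show (m.1 : MulAut (T : Subgroup K)) (ζ aK) = (ζ * (m.1 : MulAut (T : Subgroup K))) aK
        conv_rhs => rw [show ζ * (m.1 : MulAut (T : Subgroup K)) = (m.1 : MulAut (T : Subgroup K)) * ζ by
          conv_rhs => rw [← hm']
          group]
        rfl
      exact congrArg (fun x : (T : Subgroup K) => ((x : K) : X)) h1
    intro w
    rw [hqe]
    exact hmove b' hb'B w
  -- the complement
  set R := B ⊓ centralizer (K : Set X) with hR
  have hdec : ∀ a ∈ B, ∃ k ∈ P₁, ∃ c ∈ R, a = k * c := by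
    intro a ha
    obtain ⟨k, hk, hkc⟩ := (h.compSpec hI hK).split a ha
    have hkB : k ∈ B := hk.1
    have hakB : a * k⁻¹ ∈ B := mul_mem ha (inv_mem hkB)
    exact ⟨k, hk, a * k⁻¹, ⟨hakB, hkc⟩, by rw [hcomm hkB hakB, inv_mul_cancel_right]⟩
  have hdisj : ∀ y ∈ P₁, y ∈ R → y = 1 := fun y hy hyR =>
    hcen y hy.2 fun k hk => (mem_centralizer_iff.1 hyR.2 k hk).symm
  have hPst : ∀ w, ∀ y ∈ P₁, σ w y ∈ P₁ := fun w y hy => ⟨ho.stab w y hy.1, hKst w hy.2⟩
  have hRst : ∀ w, ∀ y ∈ R, σ w y ∈ R := by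
    intro w y hy
    refine ⟨ho.stab w y hy.1, mem_centralizer_iff.2 fun k hk => ?_⟩
    have h1 := mem_centralizer_iff.1 hy.2 _ (hKst w⁻¹ hk)
    have h2 := congrArg (σ w) h1
    rwa [map_mul, map_mul, act_act_inv] at h2
  -- a fixed element of the complement
  let F : Subgroup X :=
    { carrier := {y | y ∈ B ∧ ∀ w, σ w y = y}
      one_mem' := ⟨one_mem _, fun w => map_one _⟩
      mul_mem' := fun {a c} ha hc => ⟨mul_mem ha.1 hc.1, fun w => by rw [map_mul, ha.2, hc.2]⟩
      inv_mem' := fun {a} ha => ⟨inv_mem ha.1, fun w => by rw [map_inv, ha.2]⟩ }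
  have hF4 := he.fixed F (fun y hy => hy.1) fun y hy => hy.2
  obtain ⟨r, hrR, hr1, hrfix⟩ : ∃ r ∈ R, r ≠ 1 ∧ ∀ w, σ w r = r := by
    by_cases hRb : R = ⊥
    · exfalso
      have hle : {y // y ∈ B ∧ σ z y = y} → F := fun y => ⟨y.1, y.2.1, by
        obtain ⟨k, hk, c, hc, e⟩ := hdec _ y.2.1
        rw [hRb, Subgroup.mem_bot] at hc
        rw [hc, mul_one] at e
        exact hfix _ (e ▸ hk) y.2.2⟩
      have h16 : 16 ≤ Nat.card F := he.cent.trans (Nat.card_le_card_of_injective
        (fun y => (⟨y.1, y.2.1, by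
          obtain ⟨k, hk, c, hc, e⟩ := hdec _ y.2.1
          rw [hRb, Subgroup.mem_bot] at hc
          rw [hc, mul_one] at e
          exact hfix _ (e ▸ hk) y.2.2⟩ : F))
        fun y y' e => Subtype.ext (congrArg (fun x : F => (x : X)) e))
      omega
    -- `W` acts on the complement
    letI : MulAction W R :=
      { smul := fun w y => ⟨σ w y.1, hRst w _ y.2⟩
        one_smul := fun y => Subtype.ext (by show σ 1 y.1 = y.1; rw [map_one]; rfl)
        mul_smul := fun w w' y => Subtype.ext (act_mul w w' y.1) }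
    have h2 : 2 ∣ Nat.card R := by
      obtain ⟨k, hk⟩ := IsPGroup.iff_card.1 (P.2.to_le (inf_le_left.trans h.closed.1 : R ≤ (P : Subgroup X)))
      rcases Nat.eq_zero_or_pos k with rfl | hk0
      · exact absurd (Subgroup.card_eq_one.1 (hk.trans (pow_zero 2))) hRb
      · rw [hk]; exact dvd_pow_self 2 hk0.ne'
    obtain ⟨r, hr, hr1⟩ := ho.group.exists_fixed_point_of_prime_dvd_card_of_fixed_point R h2
      (a := (1 : R)) (fun w => Subtype.ext (map_one (σ w)))
    exact ⟨r, r.2, fun e => hr1 (Subtype.ext e.symm), fun w => congrArg Subtype.val (hr w)⟩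
  have hpF : p ∈ F := ⟨hpP.1, hmove a₀ ha₀B⟩
  have hrF : r ∈ F := ⟨hrR.1, hrfix⟩
  -- only `1` and `p` are fixed in `P₁`
  have honly : ∀ q ∈ P₁, σ z q = q → q = 1 ∨ q = p := by
    intro q hq hqz
    by_contra hno'
    push Not at hno'
    have hne : ∀ y ∈ P₁, ∀ y' ∈ P₁, y ≠ y' * r := fun y hy y' hy' e => hr1 (hdisj r (by
      rw [show r = y'⁻¹ * y by rw [e, inv_mul_cancel_left]]
      exact mul_mem (inv_mem hy') hy) hrR)
    have hsub : ({1, p, q, r, p * r} : Finset X) ⊆ (Set.toFinite (F : Set X)).toFinset := by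
      intro y hy
      simp only [Finset.mem_insert, Finset.mem_singleton] at hy
      rw [Set.Finite.mem_toFinset]
      rcases hy with rfl | rfl | rfl | rfl | rfl
      exacts [one_mem _, hpF, ⟨hq.1, hfix _ hq hqz⟩, hrF, mul_mem hpF hrF]
    have h5 : ({1, p, q, r, p * r} : Finset X).card = 5 := by
      have hr' : ∀ y ∈ P₁, y ≠ r := fun y hy => by simpa using hne y hy 1 (one_mem _)
      rw [Finset.card_insert_of_notMem, Finset.card_insert_of_notMem, Finset.card_insert_of_notMem,
        Finset.card_pair]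
      · exact fun e => hp1 (by simpa using e)
      · simp only [Finset.mem_insert, Finset.mem_singleton, not_or]
        exact ⟨hr' q hq, hne q hq p hpP⟩
      · simp only [Finset.mem_insert, Finset.mem_singleton, not_or]
        exact ⟨fun e => hno'.2 e.symm, hr' p hpP, hne p hpP p hpP⟩
      · simp only [Finset.mem_insert, Finset.mem_singleton, not_or]
        exact ⟨Ne.symm hp1, Ne.symm hno'.1, Ne.symm hr1, hne 1 (one_mem _) p hpP⟩
    have := (Finset.card_le_card hsub).trans_eq (Set.ncard_eq_toFinset_card _ _).symm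
    rw [h5, ← Nat.card_coe_set_eq] at this
    exact absurd this (by
      have : Nat.card ((F : Set X) : Type _) = Nat.card F := rfl
      omega)
  -- so `P₁` is small and `[u, v]` fixes it
  have hw1 : move σ z p = 1 := mul_inv_eq_one.2 (hmove a₀ ha₀B z)
  have hsmall : ∀ a ∈ P₁, a = 1 ∨ a = p ∨ a = a₀ ∨ a = a₀ * p := by
    intro a ha
    have hwa : move σ z a ∈ P₁ := ⟨hmB a ha.1, hmK a ha.2⟩
    rcases honly _ hwa (hmove a ha.1 z) with e | e
    · rcases honly a ha (mul_inv_eq_one.1 e) with rfl | rfl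
      · exact Or.inl rfl
      · exact Or.inr (Or.inl rfl)
    · have h1 : move σ z (a₀ * a) = 1 := by rw [hmmul a₀ ha₀B a ha.1, ← hp, e, ho.sq p hpP.1]
      rcases honly _ (mul_mem ⟨ha₀B, ha₀K⟩ ha) (mul_inv_eq_one.1 h1) with e' | e'
      · exact Or.inr (Or.inr (Or.inl (by
          rw [← mul_left_cancel_iff (a := a₀), e', ho.sq a₀ ha₀B])))
      · exact Or.inr (Or.inr (Or.inr (by
          rw [← e', ← mul_assoc, ho.sq a₀ ha₀B, one_mul])))
  have hbeh : ∀ w, σ w a₀ = a₀ ∨ σ w a₀ = a₀ * p := by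
    intro w
    rcases hsmall _ (hPst w a₀ ⟨ha₀B, ha₀K⟩) with e | e | e | e
    · exact absurd ((σ w).injective (e.trans (map_one _).symm)) fun e' => hp1 (by rw [hp, e']; simp [move])
    · exact absurd ((σ w).injective (e.trans (hpF.2 w).symm)) fun e' => hp1 (by rw [hp, e']; exact hw1)
    · exact Or.inl e
    · exact Or.inr e
  have hinv : ∀ w, σ w⁻¹ a₀ = σ w a₀ := by
    intro w
    rcases hbeh w with e | e <;> rw [e]
    · conv_lhs => rw [← e, act_inv_act]
    · have h1 := congrArg (σ w⁻¹) e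
      rw [act_inv_act, map_mul, hpF.2] at h1
      conv_rhs => rw [h1]
      rw [mul_assoc, ho.sq p hpP.1, mul_one]
  refine hp1 (mul_inv_eq_one.2 ?_)
  rw [hz, commutatorElement_def, act_mul, act_mul, act_mul, hinv v]
  have hi := hinv u
  rcases hbeh u with e1 | e1 <;> rcases hbeh v with e2 | e2 <;>
    simp only [e1, e2, hi, map_mul, hpF.2, mul_assoc, ho.sq p hpP.1, mul_one]

end CfsgLib.Spor.M24SylowTwo.Layer
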