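import Cfsg.Agent.Lib.Spor.M24SylowTwo.Model

/-!
# The centralizers of the involutions of `V5` outside its elementary subgroup of order 64

For representatives `t` of these involutions the table lists an element `r` of the centre of the centralizer
with a number of square roots in the centralizer all of its own, an element `y` normalizing the centralizer and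
moving `t` by `r`, some elements of the centralizer, and the elements commuting with `t` and with these.
-/

set_option autoImplicit false
set_option maxRecDepth 8000

namespace CfsgLib.Spor.M24SylowTwo.V5

/-- The table. -/
def table : List (V5 × V5 × V5 × List V5 × List V5) :=
  [(⟨0, 0, 0, 0, 0, 1, 0, 0, 0⟩, ⟨0, 0, 0, 0, 0, 0, 0, 1, 1⟩, ⟨1, 0, 0, 1, 0, 0, 0, 0, 0⟩,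
    [⟨0, 0, 0, 0, 0, 0, 0, 0, 1⟩, ⟨0, 0, 0, 0, 0, 0, 0, 1, 0⟩, ⟨0, 0, 0, 0, 0, 0, 1, 0, 0⟩,
      ⟨0, 0, 0, 0, 0, 1, 0, 0, 0⟩, ⟨0, 0, 0, 0, 1, 0, 0, 0, 0⟩, ⟨0, 0, 1, 0, 0, 0, 0, 0, 0⟩,
      ⟨0, 1, 0, 0, 0, 0, 0, 0, 0⟩],
    [⟨0, 0, 0, 0, 0, 0, 0, 0, 0⟩, ⟨0, 0, 0, 0, 0, 0, 0, 0, 1⟩, ⟨0, 0, 0, 0, 0, 0, 0, 1, 0⟩,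
      ⟨0, 0, 0, 0, 0, 0, 0, 1, 1⟩, ⟨0, 0, 0, 0, 0, 1, 0, 0, 0⟩, ⟨0, 0, 0, 0, 0, 1, 0, 0, 1⟩,
      ⟨0, 0, 0, 0, 0, 1, 0, 1, 0⟩, ⟨0, 0, 0, 0, 0, 1, 0, 1, 1⟩]),
  (⟨0, 0, 1, 0, 0, 0, 0, 0, 0⟩, ⟨0, 0, 0, 0, 0, 0, 0, 1, 0⟩, ⟨0, 0, 0, 0, 1, 0, 0, 0, 0⟩,
    [⟨0, 0, 0, 0, 0, 0, 0, 0, 1⟩, ⟨0, 0, 0, 0, 0, 0, 0, 1, 0⟩, ⟨0, 0, 0, 0, 0, 0, 1, 0, 0⟩,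
      ⟨0, 0, 0, 0, 0, 1, 0, 0, 0⟩, ⟨0, 0, 1, 0, 0, 0, 0, 0, 0⟩, ⟨1, 0, 0, 0, 0, 0, 0, 0, 0⟩],
    [⟨0, 0, 0, 0, 0, 0, 0, 0, 0⟩, ⟨0, 0, 0, 0, 0, 0, 0, 0, 1⟩, ⟨0, 0, 0, 0, 0, 0, 0, 1, 0⟩,
      ⟨0, 0, 0, 0, 0, 0, 0, 1, 1⟩, ⟨0, 0, 0, 0, 0, 0, 1, 0, 0⟩, ⟨0, 0, 0, 0, 0, 0, 1, 0, 1⟩,
      ⟨0, 0, 0, 0, 0, 0, 1, 1, 0⟩, ⟨0, 0, 0, 0, 0, 0, 1, 1, 1⟩, ⟨0, 0, 1, 0, 0, 0, 0, 0, 0⟩,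
      ⟨0, 0, 1, 0, 0, 0, 0, 0, 1⟩, ⟨0, 0, 1, 0, 0, 0, 0, 1, 0⟩, ⟨0, 0, 1, 0, 0, 0, 0, 1, 1⟩,
      ⟨0, 0, 1, 0, 0, 0, 1, 0, 0⟩, ⟨0, 0, 1, 0, 0, 0, 1, 0, 1⟩, ⟨0, 0, 1, 0, 0, 0, 1, 1, 0⟩,
      ⟨0, 0, 1, 0, 0, 0, 1, 1, 1⟩]),
  (⟨0, 1, 0, 0, 0, 0, 0, 0, 0⟩, ⟨0, 0, 0, 0, 0, 0, 0, 0, 1⟩, ⟨0, 0, 0, 0, 0, 0, 1, 0, 0⟩,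
    [⟨0, 0, 0, 0, 0, 0, 0, 0, 1⟩, ⟨0, 0, 0, 0, 0, 0, 0, 1, 0⟩, ⟨0, 0, 0, 0, 0, 1, 0, 0, 0⟩,
      ⟨0, 0, 0, 0, 1, 0, 0, 0, 0⟩, ⟨0, 0, 0, 1, 0, 0, 0, 0, 0⟩, ⟨0, 1, 0, 0, 0, 0, 0, 0, 0⟩],
    [⟨0, 0, 0, 0, 0, 0, 0, 0, 0⟩, ⟨0, 0, 0, 0, 0, 0, 0, 0, 1⟩, ⟨0, 0, 0, 0, 0, 0, 0, 1, 0⟩,
      ⟨0, 0, 0, 0, 0, 0, 0, 1, 1⟩, ⟨0, 0, 0, 0, 1, 0, 0, 0, 0⟩, ⟨0, 0, 0, 0, 1, 0, 0, 0, 1⟩,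
      ⟨0, 0, 0, 0, 1, 0, 0, 1, 0⟩, ⟨0, 0, 0, 0, 1, 0, 0, 1, 1⟩, ⟨0, 1, 0, 0, 0, 0, 0, 0, 0⟩,
      ⟨0, 1, 0, 0, 0, 0, 0, 0, 1⟩, ⟨0, 1, 0, 0, 0, 0, 0, 1, 0⟩, ⟨0, 1, 0, 0, 0, 0, 0, 1, 1⟩,
      ⟨0, 1, 0, 0, 1, 0, 0, 0, 0⟩, ⟨0, 1, 0, 0, 1, 0, 0, 0, 1⟩, ⟨0, 1, 0, 0, 1, 0, 0, 1, 0⟩,
      ⟨0, 1, 0, 0, 1, 0, 0, 1, 1⟩]),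
  (⟨0, 0, 0, 0, 0, 1, 1, 0, 0⟩, ⟨0, 0, 0, 0, 0, 0, 0, 1, 1⟩, ⟨1, 0, 0, 1, 0, 0, 0, 0, 0⟩,
    [⟨0, 0, 0, 0, 0, 0, 0, 0, 1⟩, ⟨0, 0, 0, 0, 0, 0, 0, 1, 0⟩, ⟨0, 0, 0, 0, 0, 0, 1, 0, 0⟩,
      ⟨0, 0, 0, 0, 0, 1, 0, 0, 0⟩, ⟨0, 0, 0, 0, 1, 0, 0, 0, 0⟩, ⟨0, 0, 1, 0, 0, 0, 0, 0, 0⟩,
      ⟨0, 1, 0, 1, 0, 0, 0, 0, 0⟩],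
    [⟨0, 0, 0, 0, 0, 0, 0, 0, 0⟩, ⟨0, 0, 0, 0, 0, 0, 0, 0, 1⟩, ⟨0, 0, 0, 0, 0, 0, 0, 1, 0⟩,
      ⟨0, 0, 0, 0, 0, 0, 0, 1, 1⟩, ⟨0, 0, 0, 0, 0, 1, 1, 0, 0⟩, ⟨0, 0, 0, 0, 0, 1, 1, 0, 1⟩,
      ⟨0, 0, 0, 0, 0, 1, 1, 1, 0⟩, ⟨0, 0, 0, 0, 0, 1, 1, 1, 1⟩]),
  (⟨0, 0, 0, 0, 1, 1, 0, 0, 0⟩, ⟨0, 0, 0, 0, 0, 0, 0, 1, 1⟩, ⟨0, 0, 1, 1, 0, 0, 0, 0, 0⟩,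
    [⟨0, 0, 0, 0, 0, 0, 0, 0, 1⟩, ⟨0, 0, 0, 0, 0, 0, 0, 1, 0⟩, ⟨0, 0, 0, 0, 0, 0, 1, 0, 0⟩,
      ⟨0, 0, 0, 0, 0, 1, 0, 0, 0⟩, ⟨0, 0, 0, 0, 1, 0, 0, 0, 0⟩, ⟨0, 1, 0, 0, 0, 0, 0, 0, 0⟩,
      ⟨1, 0, 1, 0, 0, 0, 0, 0, 0⟩],
    [⟨0, 0, 0, 0, 0, 0, 0, 0, 0⟩, ⟨0, 0, 0, 0, 0, 0, 0, 0, 1⟩, ⟨0, 0, 0, 0, 0, 0, 0, 1, 0⟩,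
      ⟨0, 0, 0, 0, 0, 0, 0, 1, 1⟩, ⟨0, 0, 0, 0, 1, 1, 0, 0, 0⟩, ⟨0, 0, 0, 0, 1, 1, 0, 0, 1⟩,
      ⟨0, 0, 0, 0, 1, 1, 0, 1, 0⟩, ⟨0, 0, 0, 0, 1, 1, 0, 1, 1⟩]),
  (⟨0, 0, 1, 0, 0, 0, 0, 0, 1⟩, ⟨0, 0, 0, 0, 0, 0, 0, 1, 0⟩, ⟨0, 0, 0, 0, 1, 0, 0, 0, 0⟩,
    [⟨0, 0, 0, 0, 0, 0, 0, 0, 1⟩, ⟨0, 0, 0, 0, 0, 0, 0, 1, 0⟩, ⟨0, 0, 0, 0, 0, 0, 1, 0, 0⟩,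
      ⟨0, 0, 0, 0, 0, 1, 0, 0, 0⟩, ⟨0, 0, 1, 0, 0, 0, 0, 0, 0⟩, ⟨1, 0, 0, 0, 0, 0, 0, 0, 0⟩],
    [⟨0, 0, 0, 0, 0, 0, 0, 0, 0⟩, ⟨0, 0, 0, 0, 0, 0, 0, 0, 1⟩, ⟨0, 0, 0, 0, 0, 0, 0, 1, 0⟩,
      ⟨0, 0, 0, 0, 0, 0, 0, 1, 1⟩, ⟨0, 0, 0, 0, 0, 0, 1, 0, 0⟩, ⟨0, 0, 0, 0, 0, 0, 1, 0, 1⟩,
      ⟨0, 0, 0, 0, 0, 0, 1, 1, 0⟩, ⟨0, 0, 0, 0, 0, 0, 1, 1, 1⟩, ⟨0, 0, 1, 0, 0, 0, 0, 0, 0⟩,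
      ⟨0, 0, 1, 0, 0, 0, 0, 0, 1⟩, ⟨0, 0, 1, 0, 0, 0, 0, 1, 0⟩, ⟨0, 0, 1, 0, 0, 0, 0, 1, 1⟩,
      ⟨0, 0, 1, 0, 0, 0, 1, 0, 0⟩, ⟨0, 0, 1, 0, 0, 0, 1, 0, 1⟩, ⟨0, 0, 1, 0, 0, 0, 1, 1, 0⟩,
      ⟨0, 0, 1, 0, 0, 0, 1, 1, 1⟩]),
  (⟨0, 1, 0, 0, 0, 0, 0, 1, 0⟩, ⟨0, 0, 0, 0, 0, 0, 0, 0, 1⟩, ⟨0, 0, 0, 0, 0, 0, 1, 0, 0⟩,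
    [⟨0, 0, 0, 0, 0, 0, 0, 0, 1⟩, ⟨0, 0, 0, 0, 0, 0, 0, 1, 0⟩, ⟨0, 0, 0, 0, 0, 1, 0, 0, 0⟩,
      ⟨0, 0, 0, 0, 1, 0, 0, 0, 0⟩, ⟨0, 0, 0, 1, 0, 0, 0, 0, 0⟩, ⟨0, 1, 0, 0, 0, 0, 0, 0, 0⟩],
    [⟨0, 0, 0, 0, 0, 0, 0, 0, 0⟩, ⟨0, 0, 0, 0, 0, 0, 0, 0, 1⟩, ⟨0, 0, 0, 0, 0, 0, 0, 1, 0⟩,
      ⟨0, 0, 0, 0, 0, 0, 0, 1, 1⟩, ⟨0, 0, 0, 0, 1, 0, 0, 0, 0⟩, ⟨0, 0, 0, 0, 1, 0, 0, 0, 1⟩,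
      ⟨0, 0, 0, 0, 1, 0, 0, 1, 0⟩, ⟨0, 0, 0, 0, 1, 0, 0, 1, 1⟩, ⟨0, 1, 0, 0, 0, 0, 0, 0, 0⟩,
      ⟨0, 1, 0, 0, 0, 0, 0, 0, 1⟩, ⟨0, 1, 0, 0, 0, 0, 0, 1, 0⟩, ⟨0, 1, 0, 0, 0, 0, 0, 1, 1⟩,
      ⟨0, 1, 0, 0, 1, 0, 0, 0, 0⟩, ⟨0, 1, 0, 0, 1, 0, 0, 0, 1⟩, ⟨0, 1, 0, 0, 1, 0, 0, 1, 0⟩,
      ⟨0, 1, 0, 0, 1, 0, 0, 1, 1⟩]),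
  (⟨0, 1, 0, 1, 0, 0, 0, 0, 0⟩, ⟨0, 0, 0, 0, 0, 0, 0, 0, 1⟩, ⟨0, 0, 0, 0, 0, 0, 1, 0, 0⟩,
    [⟨0, 0, 0, 0, 0, 0, 0, 0, 1⟩, ⟨0, 0, 0, 0, 0, 0, 0, 1, 0⟩, ⟨0, 0, 0, 0, 1, 0, 0, 0, 0⟩,
      ⟨0, 0, 0, 1, 0, 0, 0, 0, 0⟩, ⟨0, 1, 0, 0, 0, 0, 0, 0, 0⟩, ⟨0, 0, 0, 0, 0, 1, 1, 0, 0⟩],
    [⟨0, 0, 0, 0, 0, 0, 0, 0, 0⟩, ⟨0, 0, 0, 0, 0, 0, 0, 0, 1⟩, ⟨0, 0, 0, 0, 0, 0, 0, 1, 0⟩,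
      ⟨0, 0, 0, 0, 0, 0, 0, 1, 1⟩, ⟨0, 0, 0, 0, 1, 0, 0, 0, 0⟩, ⟨0, 0, 0, 0, 1, 0, 0, 0, 1⟩,
      ⟨0, 0, 0, 0, 1, 0, 0, 1, 0⟩, ⟨0, 0, 0, 0, 1, 0, 0, 1, 1⟩, ⟨0, 1, 0, 1, 0, 0, 0, 0, 0⟩,
      ⟨0, 1, 0, 1, 0, 0, 0, 0, 1⟩, ⟨0, 1, 0, 1, 0, 0, 0, 1, 0⟩, ⟨0, 1, 0, 1, 0, 0, 0, 1, 1⟩,
      ⟨0, 1, 0, 1, 1, 0, 0, 0, 0⟩, ⟨0, 1, 0, 1, 1, 0, 0, 0, 1⟩, ⟨0, 1, 0, 1, 1, 0, 0, 1, 0⟩,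
      ⟨0, 1, 0, 1, 1, 0, 0, 1, 1⟩]),
  (⟨1, 0, 1, 0, 0, 0, 0, 0, 0⟩, ⟨0, 0, 0, 0, 0, 0, 0, 1, 0⟩, ⟨0, 0, 0, 0, 0, 1, 0, 0, 0⟩,
    [⟨0, 0, 0, 0, 0, 0, 0, 0, 1⟩, ⟨0, 0, 0, 0, 0, 0, 0, 1, 0⟩, ⟨0, 0, 0, 0, 0, 0, 1, 0, 0⟩,
      ⟨0, 0, 1, 0, 0, 0, 0, 0, 0⟩, ⟨1, 0, 0, 0, 0, 0, 0, 0, 0⟩, ⟨0, 0, 0, 0, 1, 1, 0, 0, 0⟩],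
    [⟨0, 0, 0, 0, 0, 0, 0, 0, 0⟩, ⟨0, 0, 0, 0, 0, 0, 0, 0, 1⟩, ⟨0, 0, 0, 0, 0, 0, 0, 1, 0⟩,
      ⟨0, 0, 0, 0, 0, 0, 0, 1, 1⟩, ⟨0, 0, 0, 0, 0, 0, 1, 0, 0⟩, ⟨0, 0, 0, 0, 0, 0, 1, 0, 1⟩,
      ⟨0, 0, 0, 0, 0, 0, 1, 1, 0⟩, ⟨0, 0, 0, 0, 0, 0, 1, 1, 1⟩, ⟨1, 0, 1, 0, 0, 0, 0, 0, 0⟩,
      ⟨1, 0, 1, 0, 0, 0, 0, 0, 1⟩, ⟨1, 0, 1, 0, 0, 0, 0, 1, 0⟩, ⟨1, 0, 1, 0, 0, 0, 0, 1, 1⟩,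
      ⟨1, 0, 1, 0, 0, 0, 1, 0, 0⟩, ⟨1, 0, 1, 0, 0, 0, 1, 0, 1⟩, ⟨1, 0, 1, 0, 0, 0, 1, 1, 0⟩,
      ⟨1, 0, 1, 0, 0, 0, 1, 1, 1⟩]),
  (⟨0, 0, 0, 0, 1, 1, 1, 0, 0⟩, ⟨0, 0, 0, 0, 0, 0, 0, 1, 1⟩, ⟨0, 0, 1, 1, 0, 0, 0, 0, 0⟩,
    [⟨0, 0, 0, 0, 0, 0, 0, 0, 1⟩, ⟨0, 0, 0, 0, 0, 0, 0, 1, 0⟩, ⟨0, 0, 0, 0, 0, 0, 1, 0, 0⟩,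
      ⟨0, 0, 0, 0, 0, 1, 0, 0, 0⟩, ⟨0, 0, 0, 0, 1, 0, 0, 0, 0⟩, ⟨0, 1, 0, 1, 0, 0, 0, 0, 0⟩,
      ⟨1, 0, 1, 0, 0, 0, 0, 0, 0⟩],
    [⟨0, 0, 0, 0, 0, 0, 0, 0, 0⟩, ⟨0, 0, 0, 0, 0, 0, 0, 0, 1⟩, ⟨0, 0, 0, 0, 0, 0, 0, 1, 0⟩,
      ⟨0, 0, 0, 0, 0, 0, 0, 1, 1⟩, ⟨0, 0, 0, 0, 1, 1, 1, 0, 0⟩, ⟨0, 0, 0, 0, 1, 1, 1, 0, 1⟩,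
      ⟨0, 0, 0, 0, 1, 1, 1, 1, 0⟩, ⟨0, 0, 0, 0, 1, 1, 1, 1, 1⟩]),
  (⟨0, 1, 0, 1, 0, 0, 0, 1, 0⟩, ⟨0, 0, 0, 0, 0, 0, 0, 0, 1⟩, ⟨0, 0, 0, 0, 0, 0, 1, 0, 0⟩,
    [⟨0, 0, 0, 0, 0, 0, 0, 0, 1⟩, ⟨0, 0, 0, 0, 0, 0, 0, 1, 0⟩, ⟨0, 0, 0, 0, 1, 0, 0, 0, 0⟩,
      ⟨0, 0, 0, 1, 0, 0, 0, 0, 0⟩, ⟨0, 1, 0, 0, 0, 0, 0, 0, 0⟩, ⟨0, 0, 0, 0, 0, 1, 1, 0, 0⟩],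
    [⟨0, 0, 0, 0, 0, 0, 0, 0, 0⟩, ⟨0, 0, 0, 0, 0, 0, 0, 0, 1⟩, ⟨0, 0, 0, 0, 0, 0, 0, 1, 0⟩,
      ⟨0, 0, 0, 0, 0, 0, 0, 1, 1⟩, ⟨0, 0, 0, 0, 1, 0, 0, 0, 0⟩, ⟨0, 0, 0, 0, 1, 0, 0, 0, 1⟩,
      ⟨0, 0, 0, 0, 1, 0, 0, 1, 0⟩, ⟨0, 0, 0, 0, 1, 0, 0, 1, 1⟩, ⟨0, 1, 0, 1, 0, 0, 0, 0, 0⟩,
      ⟨0, 1, 0, 1, 0, 0, 0, 0, 1⟩, ⟨0, 1, 0, 1, 0, 0, 0, 1, 0⟩, ⟨0, 1, 0, 1, 0, 0, 0, 1, 1⟩,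
      ⟨0, 1, 0, 1, 1, 0, 0, 0, 0⟩, ⟨0, 1, 0, 1, 1, 0, 0, 0, 1⟩, ⟨0, 1, 0, 1, 1, 0, 0, 1, 0⟩,
      ⟨0, 1, 0, 1, 1, 0, 0, 1, 1⟩]),
  (⟨1, 0, 1, 0, 0, 0, 0, 0, 1⟩, ⟨0, 0, 0, 0, 0, 0, 0, 1, 0⟩, ⟨0, 0, 0, 0, 0, 1, 0, 0, 0⟩,
    [⟨0, 0, 0, 0, 0, 0, 0, 0, 1⟩, ⟨0, 0, 0, 0, 0, 0, 0, 1, 0⟩, ⟨0, 0, 0, 0, 0, 0, 1, 0, 0⟩,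
      ⟨0, 0, 1, 0, 0, 0, 0, 0, 0⟩, ⟨1, 0, 0, 0, 0, 0, 0, 0, 0⟩, ⟨0, 0, 0, 0, 1, 1, 0, 0, 0⟩],
    [⟨0, 0, 0, 0, 0, 0, 0, 0, 0⟩, ⟨0, 0, 0, 0, 0, 0, 0, 0, 1⟩, ⟨0, 0, 0, 0, 0, 0, 0, 1, 0⟩,
      ⟨0, 0, 0, 0, 0, 0, 0, 1, 1⟩, ⟨0, 0, 0, 0, 0, 0, 1, 0, 0⟩, ⟨0, 0, 0, 0, 0, 0, 1, 0, 1⟩,
      ⟨0, 0, 0, 0, 0, 0, 1, 1, 0⟩, ⟨0, 0, 0, 0, 0, 0, 1, 1, 1⟩, ⟨1, 0, 1, 0, 0, 0, 0, 0, 0⟩,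
      ⟨1, 0, 1, 0, 0, 0, 0, 0, 1⟩, ⟨1, 0, 1, 0, 0, 0, 0, 1, 0⟩, ⟨1, 0, 1, 0, 0, 0, 0, 1, 1⟩,
      ⟨1, 0, 1, 0, 0, 0, 1, 0, 0⟩, ⟨1, 0, 1, 0, 0, 0, 1, 0, 1⟩, ⟨1, 0, 1, 0, 0, 0, 1, 1, 0⟩,
      ⟨1, 0, 1, 0, 0, 0, 1, 1, 1⟩])]

/-- Membership of `big`. -/
def isBig (x : V5) : Bool := x.b == 0 && x.c == 0 && x.f == 0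

theorem isBig_iff {x : V5} : isBig x = true ↔ x ∈ big := by
  simp [isBig, mem_big, and_assoc]

/-- The test of one line of the table. -/
def check : V5 × V5 × V5 × List V5 × List V5 → Bool
  | (t, r, y, gens, Z) =>
    gens.all (fun g => g * t == t * g) &&
    (all.filter fun x => (x * t == t * x) && gens.all fun g => x * g == g * x) == Z &&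
    Z.all (fun z => isBig z || all.all fun x => (x * z == z * x) == (x * t == t * x)) &&
    decide (256 ≤ (all.filter fun x => Z.elem (x * t * x⁻¹)).length) &&
    all.all (fun x => !isBig x || Z.elem (x * t * x⁻¹)) &&
    Z.all (fun z => !isBig z || all.all fun x => !Z.elem (x * t * x⁻¹) || (x * z == z * x)) &&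
    isBig r && Z.elem r && all.all (fun x => !(x * t == t * x) || (x * r == r * x)) &&
    Z.all (fun z => z == r ||
      (all.countP fun x => (x * t == t * x) && x * x == z) != (all.countP fun x => (x * t == t * x) && x * x == r)) &&
    Z.elem (y * t * y⁻¹) && !(y * t == t * y) &&
    Z.all (fun z => y * z * y⁻¹ == z || y * z * y⁻¹ == z * r) &&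
    all.any (fun x => isBig x && !(x * t == t * x))

set_option maxHeartbeats 8000000 in
theorem check_table : table.all check = true := by decide +kernel

set_option maxHeartbeats 8000000 in
theorem check_cover : all.all (fun t => !(t * t == 1) || isBig t ||
    all.any fun s => table.any fun p => s * t * s⁻¹ == p.1) = true := by decide +kernel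

end CfsgLib.Spor.M24SylowTwo.V5
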