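import Cfsg.Agent.Lib.Spor.M24SylowTwo.Local

/-!
# The centralizers of the involutions of `V5` outside `big`: the facts
-/

set_option autoImplicit false

namespace CfsgLib.Spor.M24SylowTwo.V5

/-- `z` is central in the centralizer of `t`. -/
def CenC (t z : V5) : Prop := ∀ w, Commute w t → Commute w z

/-- `x` normalizes the centralizer of `t`. -/
def NormC (t x : V5) : Prop := ∀ w, Commute w t → Commute (x * w * x⁻¹) t

/-- What is used about an involution outside `big`. -/
structure InvolFacts (t : V5) : Prop where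
  out : ∀ z, CenC t z → z ∉ big → ∀ x, Commute x z → Commute x t
  fix : ∀ x, NormC t x → ∀ z ∈ big, CenC t z → Commute x z
  le : ∀ x ∈ big, NormC t x
  card : 256 ≤ Nat.card {x // NormC t x}
  root : ∃ r ∈ big, CenC t r ∧
    (∀ z, CenC t z → z ≠ r →
      Nat.card {x // Commute x t ∧ x * x = z} ≠ Nat.card {x // Commute x t ∧ x * x = r}) ∧
    ∃ y, NormC t y ∧ ¬ Commute y t ∧ ∀ z, CenC t z → y * z * y⁻¹ = z ∨ y * z * y⁻¹ = z * r
  moved : ∃ b ∈ big, ¬ Commute b t

theorem big_conj_mem {x : V5} (hx : x ∈ big) (g : V5) : g * x * g⁻¹ ∈ big := by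
  obtain ⟨h1, h2, h3⟩ := hx
  simp only [mem_big, mul_def, inv_def, h1, h2, h3]
  refine ⟨by ring, by ring, by ring⟩

theorem big_conj_mem_iff {x : V5} (g : V5) : g * x * g⁻¹ ∈ big ↔ x ∈ big := by
  refine ⟨fun h => ?_, fun h => big_conj_mem h g⟩
  simpa [mul_assoc] using big_conj_mem h g⁻¹

theorem nodup_all : all.Nodup := by decide +kernel

theorem card_eq_countP (P : V5 → Prop) (p : V5 → Bool) (h : ∀ x, P x ↔ p x = true) :
    Nat.card {x // P x} = all.countP p := by
  classical
  haveI : Fintype V5 := Fintype.ofFinite _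
  rw [Nat.card_eq_fintype_card, Fintype.card_subtype, List.countP_eq_length_filter,
    ← List.toFinset_card_of_nodup (nodup_all.filter _)]
  congr 1
  ext x
  simp [h, mem_all]

theorem involFacts_of_check {t r y : V5} {gens Z : List V5} (ht : t ∉ big)
    (h : check (t, r, y, gens, Z) = true) : InvolFacts t := by
  simp only [check, Bool.and_eq_true, List.all_eq_true, beq_iff_eq, Bool.or_eq_true, decide_eq_true_eq,
    Bool.not_eq_true', List.any_eq_true, List.elem_iff, isBig_iff] at h
  obtain ⟨⟨⟨⟨⟨⟨⟨⟨⟨⟨⟨⟨⟨hg, hZ⟩, hout⟩, hcard⟩, hle⟩, hfix⟩, hrb⟩, hrZ⟩, hrC⟩, hroot⟩, hyN⟩, hyt⟩, hyz⟩, hmov⟩ := h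
  have hout' : ∀ z ∈ Z, z ∉ big → ∀ x, Commute x z ↔ Commute x t := by
    intro z hz hzb x
    have h1 := (hout z hz).resolve_left hzb x (mem_all x)
    show x * z = z * x ↔ x * t = t * x
    simpa [beq_iff_eq] using Bool.eq_iff_iff.1 h1
  have hmem : ∀ z, CenC t z → z ∈ Z := fun z hz => by
    rw [← hZ, List.mem_filter]
    refine ⟨mem_all z, ?_⟩
    simp only [Bool.and_eq_true, beq_iff_eq, List.all_eq_true]
    exact ⟨(hz t (Commute.refl t)).symm, fun g hg' => (hz g (hg g hg')).symm⟩
  have hN : ∀ x, NormC t x ↔ x * t * x⁻¹ ∈ Z := by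
    intro x
    constructor
    · intro hx
      refine hmem _ fun w hw => ?_
      let f : {v // Commute v t} → {v // Commute v t} := fun v => ⟨x * v.1 * x⁻¹, hx v.1 v.2⟩
      have hf : Function.Injective f := fun a b e =>
        Subtype.ext (mul_left_cancel (mul_right_cancel (congrArg Subtype.val e)))
      obtain ⟨⟨v, hv⟩, e⟩ := Finite.injective_iff_surjective.1 hf ⟨w, hw⟩
      have e' : x * v * x⁻¹ = w := congrArg Subtype.val e
      rw [← e']
      exact (Commute.map hv (MulAut.conj x).toMonoidHom)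
    · intro hx w hw
      exact (hout' _ hx (fun hb => ht ((big_conj_mem_iff x).1 hb)) _).1 (Commute.map hw (MulAut.conj x).toMonoidHom)
  refine ⟨fun z hz hzb x hxz => (hout' z (hmem z hz) hzb x).1 hxz, fun x hx z hzb hz => ?_,
    fun x hx => (hN x).2 ((hle x (mem_all x)).resolve_left ?_), ?_, ⟨r, hrb, ?_, ?_, y, (hN y).2 hyN, ?_, ?_⟩, ?_⟩
  · have hzB : isBig z = true := isBig_iff.2 hzb
    rcases (hfix z (hmem z hz)).resolve_left (by simp [hzB, hzb]) x (mem_all x) with h1 | h1
    · simp [(hN x).1 hx] at h1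
    · exact h1
  · intro e
    exact absurd hx (by simpa [← isBig_iff] using e)
  · rw [card_eq_countP _ (fun x => Z.elem (x * t * x⁻¹)) fun x => by rw [hN, List.elem_iff],
      List.countP_eq_length_filter]
    exact hcard
  · intro w hw
    rcases hrC w (mem_all w) with h1 | h1
    · simp [show w * t = t * w from hw] at h1
    · exact h1
  · intro z hz hzr
    have h1 := (hroot z (hmem z hz)).resolve_left hzr
    rw [card_eq_countP _ (fun x => (x * t == t * x) && x * x == z) fun x => by simp [commute_iff_eq],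
      card_eq_countP _ (fun x => (x * t == t * x) && x * x == r) fun x => by simp [commute_iff_eq]]
    simpa using h1
  · intro e
    simp [show y * t = t * y from e] at hyt
  · exact fun z hz => hyz z (hmem z hz)
  · obtain ⟨b, -, hb, hbt⟩ := hmov
    exact ⟨b, hb, fun e => by simp [show b * t = t * b from e] at hbt⟩

/-- Every involution outside `big` has a conjugate with the facts. -/
theorem exists_involFacts {t : V5} (h2 : t * t = 1) (ht : t ∉ big) :
    ∃ s, InvolFacts (s * t * s⁻¹) := by
  have h := List.all_eq_true.1 check_cover t (mem_all t)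
  have hb : isBig t = false := by rw [Bool.eq_false_iff, Ne, isBig_iff]; exact ht
  simp only [h2, hb, beq_self_eq_true, Bool.not_true, Bool.false_or, List.any_eq_true] at h
  obtain ⟨s, -, ⟨a, r, y, gens, Z⟩, hp, he⟩ := h
  have he' : s * t * s⁻¹ = a := beq_iff_eq.1 he
  have hmem : (s * t * s⁻¹, r, y, gens, Z) ∈ table := he'.symm ▸ hp
  exact ⟨s, involFacts_of_check (fun e => ht ((big_conj_mem_iff s).1 e))
    (List.all_eq_true.1 check_table _ hmem)⟩

/-- An element of `V5` outside `big` with all its commutators with `big` central. -/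
def zed : V5 := B * C * B⁻¹ * C⁻¹

theorem zed_not_mem : zed ∉ big := by
  rw [← isBig_iff]; decide +kernel

end CfsgLib.Spor.M24SylowTwo.V5
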