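import Mathlib
import Cfsg.Prelude
import Cfsg.Agent.Lib.Invol.QuasiDihedralMaximal

/-!
# Unitriangular groups of degree five over `ZMod 2` and their quotient by the centre

`U5` is the group of unitriangular matrices in the ten coordinates above the diagonal and `V5` its
quotient by the corner. The facts about maximal subgroups and abelian subgroups of order 64 of `V5`
reduce to finitely many checks.
-/

set_option autoImplicit false
set_option maxRecDepth 8000

namespace CfsgLib.Spor.M24SylowTwo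

open Subgroup

/-- Unitriangular matrices of degree five modulo the corner. -/
@[ext] structure V5 where
  (a b c d e f g h i : ZMod 2)
  deriving DecidableEq

namespace V5

instance : Mul V5 := ⟨fun x y => ⟨x.a + y.a, x.b + y.b, x.c + y.c, x.d + y.d, x.e + y.e + x.a * y.b,
  x.f + y.f + x.b * y.c, x.g + y.g + x.c * y.d, x.h + y.h + x.a * y.f + x.e * y.c,
  x.i + y.i + x.b * y.g + x.f * y.d⟩⟩

instance : One V5 := ⟨⟨0, 0, 0, 0, 0, 0, 0, 0, 0⟩⟩

instance : Inv V5 := ⟨fun x => ⟨-x.a, -x.b, -x.c, -x.d, -x.e + x.a * x.b, -x.f + x.b * x.c,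
  -x.g + x.c * x.d, -x.h - x.a * (-x.f + x.b * x.c) + x.e * x.c,
  -x.i - x.b * (-x.g + x.c * x.d) + x.f * x.d⟩⟩

theorem mul_def (x y : V5) : x * y = ⟨x.a + y.a, x.b + y.b, x.c + y.c, x.d + y.d,
    x.e + y.e + x.a * y.b, x.f + y.f + x.b * y.c, x.g + y.g + x.c * y.d,
    x.h + y.h + x.a * y.f + x.e * y.c, x.i + y.i + x.b * y.g + x.f * y.d⟩ := rfl

theorem one_def : (1 : V5) = ⟨0, 0, 0, 0, 0, 0, 0, 0, 0⟩ := rfl

theorem inv_def (x : V5) : x⁻¹ = ⟨-x.a, -x.b, -x.c, -x.d, -x.e + x.a * x.b, -x.f + x.b * x.c,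
  -x.g + x.c * x.d, -x.h - x.a * (-x.f + x.b * x.c) + x.e * x.c,
  -x.i - x.b * (-x.g + x.c * x.d) + x.f * x.d⟩ := rfl

instance : Group V5 :=
  Group.ofLeftAxioms
    (fun x y z => by ext <;> simp only [mul_def] <;> ring)
    (fun x => by ext <;> simp [mul_def, one_def])
    (fun x => by ext <;> simp only [mul_def, one_def, inv_def] <;> ring)

/-- All elements. -/
def equivTuple : V5 ≃ ZMod 2 × ZMod 2 × ZMod 2 × ZMod 2 × ZMod 2 × ZMod 2 × ZMod 2 × ZMod 2 × ZMod 2 where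
  toFun x := (x.a, x.b, x.c, x.d, x.e, x.f, x.g, x.h, x.i)
  invFun t := ⟨t.1, t.2.1, t.2.2.1, t.2.2.2.1, t.2.2.2.2.1, t.2.2.2.2.2.1, t.2.2.2.2.2.2.1,
    t.2.2.2.2.2.2.2.1, t.2.2.2.2.2.2.2.2⟩
  left_inv _ := rfl
  right_inv _ := rfl

instance : Finite V5 := Finite.of_equiv _ equivTuple.symm

theorem card_eq : Nat.card V5 = 512 := by
  rw [Nat.card_congr equivTuple]
  simp [Nat.card_prod]

theorem isPGroup : IsPGroup 2 V5 :=
  IsPGroup.of_card (n := 9) (by rw [card_eq]; norm_num)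

/-- The first four generators. -/
def A : V5 := ⟨1, 0, 0, 0, 0, 0, 0, 0, 0⟩
/-- The first four generators. -/
def B : V5 := ⟨0, 1, 0, 0, 0, 0, 0, 0, 0⟩
/-- The first four generators. -/
def C : V5 := ⟨0, 0, 1, 0, 0, 0, 0, 0, 0⟩
/-- The first four generators. -/
def D : V5 := ⟨0, 0, 0, 1, 0, 0, 0, 0, 0⟩

/-- The elements of a list of coordinates. -/
def all : List V5 :=
  let t : List (ZMod 2) := [0, 1]
  t.flatMap fun a => t.flatMap fun b => t.flatMap fun c => t.flatMap fun d => t.flatMap fun e =>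
    t.flatMap fun f => t.flatMap fun g => t.flatMap fun h => t.map fun i => ⟨a, b, c, d, e, f, g, h, i⟩

theorem mem_all (x : V5) : x ∈ all := by
  have h : ∀ z : ZMod 2, z ∈ ([0, 1] : List (ZMod 2)) := by decide
  simp only [all, List.mem_flatMap, List.mem_map]
  exact ⟨x.a, h _, x.b, h _, x.c, h _, x.d, h _, x.e, h _, x.f, h _, x.g, h _, x.h, h _, x.i, h _, rfl⟩

theorem card_le_of_filter (s : Set V5) (p : V5 → Bool) (hs : ∀ x ∈ s, p x = true) (n : ℕ)
    (hn : (all.filter p).length ≤ n) : Nat.card s ≤ n := by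
  classical
  refine le_trans ?_ hn
  rw [Nat.card_coe_set_eq]
  refine le_trans (Set.ncard_le_ncard (t := ((all.filter p).toFinset : Set V5)) (fun x hx => ?_)
    (Finset.finite_toSet _)) ?_
  · simp only [List.coe_toFinset, Set.mem_setOf_eq, List.mem_filter]
    exact ⟨mem_all x, hs x hx⟩
  · rw [Set.ncard_coe_finset]
    exact List.toFinset_card_le _

/-- Linear functionals on the first four coordinates. -/
def chi (s : ZMod 2 × ZMod 2 × ZMod 2 × ZMod 2) (x : V5) : ZMod 2 :=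
  s.1 * x.a + s.2.1 * x.b + s.2.2.1 * x.c + s.2.2.2 * x.d

theorem chi_mul (s : ZMod 2 × ZMod 2 × ZMod 2 × ZMod 2) (x y : V5) :
    chi s (x * y) = chi s x + chi s y := by
  simp only [chi, mul_def]; ring

/-- A test list for the kernel of `chi s`. -/
def kerList (s : ZMod 2 × ZMod 2 × ZMod 2 × ZMod 2) : List V5 :=
  ([A, B, C, D, A * B, A * C, A * D, B * C, B * D, C * D, (A * B) * (A * B), (B * C) * (B * C),
    (C * D) * (C * D)]).filter fun y => chi s y == 0

set_option maxHeartbeats 4000000 in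
theorem count_centre : ∀ s : ZMod 2 × ZMod 2 × ZMod 2 × ZMod 2, s ≠ 0 →
    (all.filter fun x => (chi s x == 0) && (kerList s).all fun y => x * y == y * x).length ≤ 8 := by
  decide +kernel

theorem decomp (x : V5) : ∃ M : V5, M.a = 0 ∧ M.b = 0 ∧ M.c = 0 ∧ M.d = 0 ∧
    x = M * (⟨x.a, x.b, x.c, x.d, 0, 0, 0, 0, 0⟩ : V5) := by
  refine ⟨⟨0, 0, 0, 0, x.e, x.f, x.g, x.h - x.e * x.c, x.i - x.f * x.d⟩, rfl, rfl, rfl, rfl, ?_⟩
  ext <;> simp [mul_def]

theorem card_center_le (M : Subgroup V5) (hM : IsCoatom M) : Nat.card ↥(Subgroup.center ↥M) ≤ 8 := by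
  classical
  have hidx : M.index = 2 := CfsgLib.Invol.index_coatom_two isPGroup hM
  let μ : V5 → ZMod 2 := fun x => if x ∈ M then 0 else 1
  have hμ : ∀ x y, μ (x * y) = μ x + μ y := by
    intro x y
    have h := Subgroup.mul_mem_iff_of_index_two hidx (a := x) (b := y)
    simp only [μ]
    by_cases hx : x ∈ M <;> by_cases hy : y ∈ M <;> simp [h, hx, hy] <;> decide
  have hμ1 : μ 1 = 0 := if_pos (one_mem M)
  have hμk : ∀ x, μ (x * x) = 0 := fun x => by rw [hμ]; exact CharTwo.add_self_eq_zero _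
  let s : ZMod 2 × ZMod 2 × ZMod 2 × ZMod 2 := (μ A, μ B, μ C, μ D)
  have hlow : ∀ x : V5, x.a = 0 → x.b = 0 → x.c = 0 → x.d = 0 → μ x = 0 := by
    intro x ha hb hc hd
    let E : V5 := (A * B) * (A * B)
    let F : V5 := (B * C) * (B * C)
    let G : V5 := (C * D) * (C * D)
    let H : V5 := (E * C) * (E * C)
    let I : V5 := (F * D) * (F * D)
    have key : ∀ e f g h i : ZMod 2, (⟨0, 0, 0, 0, e, f, g, h, i⟩ : V5) =
        (if i = 1 then I else 1) * (if h = 1 then H else 1) * (if g = 1 then G else 1) *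
          (if f = 1 then F else 1) * (if e = 1 then E else 1) := by decide +kernel
    have hx : x = ⟨0, 0, 0, 0, x.e, x.f, x.g, x.h, x.i⟩ := by ext <;> simp [ha, hb, hc, hd]
    rw [hx, key]
    simp only [hμ, apply_ite μ, hμ1, E, F, G, H, I, hμk, CharTwo.add_self_eq_zero, ite_self, add_zero, zero_add]
  have hgen : ∀ a b c d : ZMod 2, (⟨a, b, c, d, 0, 0, 0, 0, 0⟩ : V5) =
      (if d = 1 then D else 1) * (if c = 1 then C else 1) * (if b = 1 then B else 1) *
        (if a = 1 then A else 1) := by decide +kernel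
  have hchi : ∀ x, μ x = chi s x := by
    intro x
    obtain ⟨N, na, nb, nc, nd, hx⟩ := decomp x
    rw [hx, hμ, hlow N na nb nc nd, zero_add, ← hx, hgen, hμ, hμ, hμ]
    have h2 : ∀ (t : ZMod 2) (y : V5), μ (if t = 1 then y else 1) = μ y * t := by
      intro t y
      rcases (show t = 0 ∨ t = 1 by revert t; decide) with rfl | rfl <;> simp [hμ1]
    rw [h2, h2, h2, h2]
    simp only [chi, s]; ring
  have hs : s ≠ 0 := by
    intro h
    refine hM.1 (eq_top_iff.2 fun x _ => ?_)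
    by_contra hx
    have h1 := hchi x
    rw [h] at h1
    simp [μ, hx, chi] at h1
  refine le_trans ?_ (card_le_of_filter (Subtype.val '' ((Subgroup.center ↥M : Subgroup ↥M) : Set ↥M))
    (fun x => (chi s x == 0) && (kerList s).all fun y => x * y == y * x) ?_ 8 (count_centre s hs))
  · exact le_of_eq (Nat.card_image_of_injective Subtype.val_injective _).symm
  · rintro _ ⟨z, hz, rfl⟩
    simp only [Bool.and_eq_true, beq_iff_eq, List.all_eq_true]
    refine ⟨by rw [← hchi]; exact if_pos z.2, fun y hy => ?_⟩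
    have hyM : y ∈ M := by
      by_contra hyM
      have h1 := (List.mem_filter.1 hy).2
      rw [beq_iff_eq, ← hchi] at h1
      simp [μ, hyM] at h1
    exact congrArg Subtype.val (Subgroup.mem_center_iff.1 hz ⟨y, hyM⟩).symm

/-- The elementary abelian subgroup of order 64. -/
def big : Subgroup V5 where
  carrier := {x | x.b = 0 ∧ x.c = 0 ∧ x.f = 0}
  mul_mem' {x y} hx hy := by
    obtain ⟨h1, h2, h3⟩ := hx
    obtain ⟨k1, k2, k3⟩ := hy
    simp [mul_def, h1, h2, h3, k1, k2, k3]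
  one_mem' := by simp [one_def]
  inv_mem' {x} hx := by
    obtain ⟨h1, h2, h3⟩ := hx
    simp [inv_def, h1, h2, h3]

theorem mem_big {x : V5} : x ∈ big ↔ x.b = 0 ∧ x.c = 0 ∧ x.f = 0 := Iff.rfl

theorem big_comm {x y : V5} (hx : x ∈ big) (hy : y ∈ big) : x * y = y * x := by
  obtain ⟨h1, h2, h3⟩ := hx
  obtain ⟨k1, k2, k3⟩ := hy
  ext <;> simp [mul_def, h1, h2, h3, k1, k2, k3] <;> ring

theorem big_elementary : Cfsg.IsElementaryAbelian 2 big := by
  refine ⟨⟨⟨fun x y => Subtype.ext (big_comm x.2 y.2)⟩⟩, fun x hx => ?_⟩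
  obtain ⟨h1, h2, h3⟩ := hx
  rw [pow_two]
  ext <;> simp [mul_def, one_def, h1, h2, h3, CharTwo.add_self_eq_zero]

theorem card_big : Nat.card big = 64 := by
  have e : big ≃ ZMod 2 × ZMod 2 × ZMod 2 × ZMod 2 × ZMod 2 × ZMod 2 :=
    { toFun := fun x => (x.1.a, x.1.d, x.1.e, x.1.g, x.1.h, x.1.i)
      invFun := fun t => ⟨⟨t.1, 0, 0, t.2.1, t.2.2.1, 0, t.2.2.2.1, t.2.2.2.2.1, t.2.2.2.2.2⟩, rfl, rfl, rfl⟩
      left_inv := fun x => Subtype.ext (by
        obtain ⟨h1, h2, h3⟩ := x.2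
        ext <;> simp [h1, h2, h3])
      right_inv := fun t => rfl }
  rw [Nat.card_congr e]
  simp [Nat.card_prod]

/-- The representative of a coset of `big`. -/
def rep (x : V5) : V5 := ⟨0, x.b, x.c, 0, 0, x.f, 0, 0, 0⟩

theorem exists_rep (x : V5) : ∃ q ∈ big, x = q * rep x := by
  refine ⟨x * (rep x)⁻¹, ?_, by rw [inv_mul_cancel_right]⟩
  simp [mem_big, mul_def, inv_def, rep]
  ring_nf
  simp [CharTwo.two_eq_zero]

set_option maxHeartbeats 4000000 in
theorem count_one : ∀ b c f : ZMod 2, ¬ (b = 0 ∧ c = 0 ∧ f = 0) →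
    (all.filter fun y => (y.b == 0 && y.c == 0 && y.f == 0) &&
      (y * (⟨0, b, c, 0, 0, f, 0, 0, 0⟩ : V5) == ⟨0, b, c, 0, 0, f, 0, 0, 0⟩ * y)).length ≤ 16 := by
  decide +kernel

set_option maxHeartbeats 4000000 in
theorem count_two : ∀ b c f b' c' f' : ZMod 2, ¬ (b = 0 ∧ c = 0 ∧ f = 0) →
    ¬ (b' = 0 ∧ c' = 0 ∧ f' = 0) → ¬ (b = b' ∧ c = c' ∧ f = f') →
    (all.filter fun y => (y.b == 0 && y.c == 0 && y.f == 0) &&
      ((y * (⟨0, b, c, 0, 0, f, 0, 0, 0⟩ : V5) == ⟨0, b, c, 0, 0, f, 0, 0, 0⟩ * y) &&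
      (y * (⟨0, b', c', 0, 0, f', 0, 0, 0⟩ : V5) == ⟨0, b', c', 0, 0, f', 0, 0, 0⟩ * y))).length ≤ 8 := by
  decide +kernel

theorem unique_big (A₁ : Subgroup V5) (hA : IsMulCommutative A₁) (h64 : Nat.card A₁ = 64) :
    A₁ = big := by
  classical
  by_contra hne
  have hnle : ¬ A₁ ≤ big := fun h => hne (Subgroup.eq_of_le_of_card_ge h (by rw [card_big, h64]))
  have hcomm : ∀ x ∈ A₁, ∀ y ∈ A₁, x * y = y * x := fun x hx y hy =>
    congrArg Subtype.val (hA.is_comm.comm (⟨x, hx⟩ : A₁) ⟨y, hy⟩)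
  have hrep : ∀ x ∈ A₁, ∀ y ∈ A₁ ⊓ big, y * rep x = rep x * y := by
    intro x hx y hy
    obtain ⟨q, hq, hxq⟩ := exists_rep x
    have h1 := hcomm y hy.1 x hx
    rw [hxq, ← mul_assoc, big_comm hy.2 hq, mul_assoc, mul_assoc] at h1
    exact mul_left_cancel h1
  let im : V5 → ZMod 2 × ZMod 2 × ZMod 2 := fun x => (x.b, x.c, x.f)
  -- fibres of the image map on `A₁` are cosets of `A₁ ⊓ big`
  have hfib : ∀ x ∈ A₁, ∀ y ∈ A₁, im x = im y → x * y⁻¹ ∈ A₁ ⊓ big := by
    intro x hx y hy h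
    refine ⟨A₁.mul_mem hx (A₁.inv_mem hy), ?_⟩
    simp only [im, Prod.mk.injEq] at h
    obtain ⟨h1, h2, h3⟩ := h
    simp [mem_big, mul_def, inv_def, h1, h2, h3]
    ring_nf
    simp [CharTwo.two_eq_zero]
  let K : Set (ZMod 2 × ZMod 2 × ZMod 2) := im '' A₁
  have hcard : 64 ≤ Nat.card K * Nat.card ↥(A₁ ⊓ big) := by
    rw [← h64, ← Nat.card_prod]
    let pick : K → V5 := fun k => Classical.choose k.2
    have hpick : ∀ k : K, pick k ∈ A₁ ∧ im (pick k) = k := fun k => Classical.choose_spec k.2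
    refine Nat.card_le_card_of_injective (fun x : A₁ =>
      ((⟨im x, ⟨x, x.2, rfl⟩⟩ : K),
        (⟨(x : V5) * (pick ⟨im x, ⟨x, x.2, rfl⟩⟩)⁻¹, hfib _ x.2 _ (hpick _).1 (hpick ⟨im x, ⟨x, x.2, rfl⟩⟩).2.symm⟩ :
          ↥(A₁ ⊓ big)))) fun x y h => ?_
    simp only [Prod.mk.injEq] at h
    obtain ⟨hk, hv⟩ := h
    have hv' := congrArg Subtype.val hv
    simp only at hv'
    rw [hk] at hv'
    exact Subtype.ext (mul_right_cancel hv')
  obtain ⟨x, hx, hxb⟩ := SetLike.not_le_iff_exists.1 hnle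
  have hx' : ¬ (x.b = 0 ∧ x.c = 0 ∧ x.f = 0) := hxb
  have h16 : Nat.card ↥(A₁ ⊓ big) ≤ 16 := card_le_of_filter ((A₁ ⊓ big : Subgroup V5) : Set V5) _
    (fun y hy => by
      simp only [Bool.and_eq_true, beq_iff_eq]
      exact ⟨⟨⟨hy.2.1, hy.2.2.1⟩, hy.2.2.2⟩, hrep x hx y hy⟩) 16 (count_one _ _ _ hx')
  by_cases hsmall : ∀ y ∈ A₁, y ∈ big ∨ im y = im x
  · have : Nat.card K ≤ 2 := by
      refine le_trans (Nat.card_mono (s := K) (t := {0, im x}) (Set.toFinite _) ?_) ?_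
      · rintro _ ⟨y, hy, rfl⟩
        rcases hsmall y hy with h | h
        · left
          simp only [im, Prod.mk_eq_zero]
          exact h
        · exact Or.inr h
      · rw [Nat.card_coe_set_eq]
        exact (Set.ncard_insert_le _ _).trans (by simp)
    nlinarith
  · push Not at hsmall
    obtain ⟨y, hy, hyb, hyx⟩ := hsmall
    have h8 : Nat.card ↥(A₁ ⊓ big) ≤ 8 := card_le_of_filter ((A₁ ⊓ big : Subgroup V5) : Set V5) _
      (fun z hz => by
        simp only [Bool.and_eq_true, beq_iff_eq]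
        exact ⟨⟨⟨hz.2.1, hz.2.2.1⟩, hz.2.2.2⟩, hrep x hx z hz, hrep y hy z hz⟩) 8
      (count_two _ _ _ _ _ _ hx' hyb (fun h => hyx (by simp [im, h.1, h.2.1, h.2.2])))
    have hK : Nat.card K ≤ 4 := by
      have hab : ∀ k ∈ K, ∀ l ∈ K, k.1 * l.2.1 = l.1 * k.2.1 := by
        rintro _ ⟨u, hu, rfl⟩ _ ⟨v, hv, rfl⟩
        have h := congrArg V5.f (hcomm u hu v hv)
        simp only [mul_def] at h
        simp only [im]
        linear_combination h
      have hall : ∀ T : Finset (ZMod 2 × ZMod 2 × ZMod 2),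
          (∀ k ∈ T, ∀ l ∈ T, k.1 * l.2.1 = l.1 * k.2.1) → T.card ≤ 4 := by decide +kernel
      rw [Nat.card_coe_set_eq, Set.ncard_eq_toFinset_card']
      exact hall _ (fun k hk l hl => hab k (Set.mem_toFinset.1 hk) l (Set.mem_toFinset.1 hl))
    nlinarith

end V5

/-- Unitriangular matrices of degree five. -/
@[ext] structure U5 where
  (v : V5)
  (z : ZMod 2)
  deriving DecidableEq

namespace U5

instance : Mul U5 := ⟨fun x y =>
  ⟨x.v * y.v, x.z + y.z + x.v.a * y.v.i + x.v.e * y.v.g + x.v.h * y.v.d⟩⟩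

instance : One U5 := ⟨⟨1, 0⟩⟩

instance : Inv U5 := ⟨fun x =>
  ⟨x.v⁻¹, -x.z - x.v.a * (x.v⁻¹).i - x.v.e * (x.v⁻¹).g - x.v.h * (x.v⁻¹).d⟩⟩

theorem mul_def (x y : U5) :
    x * y = ⟨x.v * y.v, x.z + y.z + x.v.a * y.v.i + x.v.e * y.v.g + x.v.h * y.v.d⟩ := rfl

theorem one_def : (1 : U5) = ⟨1, 0⟩ := rfl

theorem inv_def (x : U5) :
    x⁻¹ = ⟨x.v⁻¹, -x.z - x.v.a * (x.v⁻¹).i - x.v.e * (x.v⁻¹).g - x.v.h * (x.v⁻¹).d⟩ := rfl

instance : Group U5 :=
  Group.ofRightAxioms
    (fun x y z => by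
      ext <;> simp only [mul_def, V5.mul_def] <;> ring)
    (fun x => by ext <;> simp [mul_def, one_def, V5.mul_def, V5.one_def])
    (fun x => by ext <;> simp only [mul_def, one_def, inv_def, V5.mul_def, V5.one_def, V5.inv_def] <;> ring)

/-- All elements. -/
def equivProd : U5 ≃ V5 × ZMod 2 where
  toFun x := (x.v, x.z)
  invFun t := ⟨t.1, t.2⟩
  left_inv _ := rfl
  right_inv _ := rfl

instance : Finite U5 := Finite.of_equiv _ equivProd.symm

theorem card_eq : Nat.card U5 = 1024 := by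
  rw [Nat.card_congr equivProd, Nat.card_prod, V5.card_eq]
  simp

/-- The quotient map onto `V5`. -/
def proj : U5 →* V5 where
  toFun x := x.v
  map_one' := rfl
  map_mul' _ _ := rfl

theorem proj_surjective : Function.Surjective proj := fun v => ⟨⟨v, 0⟩, rfl⟩

/-- The first four generators. -/
def A : U5 := ⟨V5.A, 0⟩
/-- The first four generators. -/
def B : U5 := ⟨V5.B, 0⟩
/-- The first four generators. -/
def C : U5 := ⟨V5.C, 0⟩
/-- The first four generators. -/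
def D : U5 := ⟨V5.D, 0⟩

set_option maxHeartbeats 4000000 in
theorem centre_check : ∀ v ∈ V5.all, v ≠ 1 →
    ([A, B, C, D].any fun y => (⟨v, 0⟩ : U5) * y != y * ⟨v, 0⟩) = true := by
  decide +kernel

theorem ker_proj : proj.ker = Subgroup.center U5 := by
  ext x
  constructor
  · intro hx
    have hv : x.v = 1 := hx
    refine Subgroup.mem_center_iff.2 fun y => ?_
    ext <;> simp [mul_def, hv, V5.one_def, V5.mul_def] <;> ring
  · intro hx
    by_contra hv
    have h := centre_check x.v (V5.mem_all _) hv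
    simp only [List.any_eq_true, bne_iff_ne] at h
    obtain ⟨y, -, hy⟩ := h
    refine hy ?_
    have hz : (⟨x.v, 0⟩ : U5) = x * ⟨1, -x.z⟩ := by
      ext <;> simp [mul_def, V5.one_def, V5.mul_def, CharTwo.add_self_eq_zero]
    have hc : ∀ w : U5, w * ⟨1, -x.z⟩ = ⟨1, -x.z⟩ * w := by
      intro w
      ext <;> simp [mul_def, V5.one_def, V5.mul_def] <;> ring
    rw [hz, mul_assoc, ← hc, ← mul_assoc, ← Subgroup.mem_center_iff.1 hx y, mul_assoc]

end U5

end CfsgLib.Spor.M24SylowTwo
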